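import Mathlib

/-!
Two charts of the projective line: polynomial rings inside the Laurent polynomial ring.
-/

set_option autoImplicit false

universe u

namespace Groth.Agent.HorrocksLib

open Polynomial
open scoped LaurentPolynomial

section Laurent
variable {A : Type u} [CommRing A]

/-- The inclusion of the chart at the origin. -/
noncomputable abbrev chart0 : A[X] →+* A[T;T⁻¹] := Polynomial.toLaurent

/-- The inclusion of the chart at infinity. -/
noncomputable def chart1 : A[X] →+* A[T;T⁻¹] :=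
  (LaurentPolynomial.invert (R := A)).toRingEquiv.toRingHom.comp Polynomial.toLaurent

theorem chart1_apply (f : A[X]) : chart1 f = LaurentPolynomial.invert (chart0 f) := rfl

theorem chart1_C (a : A) : (chart1 (C a) : A[T;T⁻¹]) = chart0 (C a) := by
  simp [chart1_apply]

theorem chart0_X_mul_chart1_X : (chart0 X * chart1 X : A[T;T⁻¹]) = 1 := by
  rw [chart1_apply, Polynomial.toLaurent_X, LaurentPolynomial.invert_T, ← LaurentPolynomial.T_add]
  simp

theorem chart0_injective : Function.Injective (chart0 (A := A)) := Polynomial.toLaurent_injective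

theorem chart1_injective : Function.Injective (chart1 (A := A)) :=
  LaurentPolynomial.invert.injective.comp Polynomial.toLaurent_injective

theorem chart0_reflect (g : A[X]) (E : ℕ) (h : g.natDegree ≤ E) :
    chart0 (g.reflect E) = chart0 X ^ E * chart1 g := by
  refine Polynomial.induction_with_natDegree_le (fun g => chart0 (g.reflect E) = chart0 X ^ E * chart1 g) E
    (by simp) (fun n r _ hn => ?_) (fun f g _ _ hf hg => ?_) g h
  · rw [reflect_C_mul_X_pow, revAt_le hn, map_mul, map_mul, map_pow, map_pow, chart1_C, mul_left_comm]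
    congr 1
    conv_rhs => rw [show E = (E - n) + n by omega, pow_add, mul_assoc, ← mul_pow, chart0_X_mul_chart1_X,
      one_pow, _root_.mul_one]
  · rw [reflect_add, map_add, map_add, mul_add, hf, hg]

theorem chart1_reflect (g : A[X]) (E : ℕ) (h : g.natDegree ≤ E) :
    chart1 (g.reflect E) = chart1 X ^ E * chart0 g := by
  rw [chart1_apply, chart0_reflect g E h, map_mul, map_pow]
  congr 1
  exact (LaurentPolynomial.invert (R := A)).left_inv (chart0 g)

theorem natDegree_reflect_le' (g : A[X]) (E : ℕ) (h : g.natDegree ≤ E) : (g.reflect E).natDegree ≤ E := by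
  refine natDegree_le_iff_coeff_eq_zero.2 fun N hN => ?_
  rw [coeff_reflect, revAt_eq_self_of_lt hN]
  exact coeff_eq_zero_of_natDegree_lt (h.trans_lt hN)

end Laurent

section Transfer

variable {R B : Type u} [CommRing R] [CommRing B]
variable {L M N : Type u} [AddCommGroup L] [Module B L] [AddCommGroup M] [Module R M]
  [AddCommGroup N] [Module R N]

theorem exists_dualBasis (R M : Type u) [CommRing R] [AddCommGroup M] [Module R M] [Module.Finite R M]
    [Module.Projective R M] :
    ∃ (n : ℕ) (m : Fin n → M) (φ : Fin n → (M →ₗ[R] R)), ∀ x, ∑ i, φ i x • m i = x := by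
  obtain ⟨n, f, g, -, -, hfg⟩ := Module.Finite.exists_comp_eq_id_of_projective R M
  refine ⟨n, fun i => f (Pi.single i 1), fun i => (LinearMap.proj i).comp g, fun x => ?_⟩
  conv_rhs => rw [← LinearMap.id_apply (R := R) x, ← hfg, LinearMap.comp_apply, pi_eq_sum_univ' (g x)]
  rw [map_sum]
  refine Finset.sum_congr rfl fun i _ => ?_
  rw [map_smul]
  rfl

/-- The ideal of values of linear forms at an element. -/
def values (R : Type u) {M : Type u} [CommRing R] [AddCommGroup M] [Module R M] (s : M) : Ideal R :=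
  LinearMap.range (Module.Dual.eval R M s)

theorem mem_values {s : M} {g : R} : g ∈ values R s ↔ ∃ φ : M →ₗ[R] R, φ s = g := Iff.rfl

/-- Values at one chart are values at the other one up to a power of the coordinate. -/
theorem transfer (ρ ρ' : R →+* B) (X₀ : R) (hX : ρ X₀ * ρ' X₀ = 1) (hρ' : Function.Injective ρ')
    (hpoly : ∀ g, ∃ E, ∀ E', E ≤ E' → ρ X₀ ^ E' * ρ' g ∈ ρ.range)
    (hpoly' : ∀ g, ∃ E, ∀ E', E ≤ E' → ρ' X₀ ^ E' * ρ g ∈ ρ'.range)
    [Module.Finite R M] [Module.Projective R M]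
    (iM : M →ₛₗ[ρ] L) (iN : N →ₛₗ[ρ'] L) (hiN : Function.Injective iN)
    (hloc : ∀ x : L, ∃ d n, ρ' X₀ ^ d • x = iN n) {s : M} {s' : N} (hs : iM s = iN s')
    {g : R} (hg : g ∈ values R s') :
    ∃ E, ∀ E', E ≤ E' → ∃ q ∈ values R s, ρ X₀ ^ E' * ρ' g = ρ q := by
  obtain ⟨ψ, rfl⟩ := hg
  obtain ⟨k, m, φ, hm⟩ := exists_dualBasis R M
  choose d n hn using fun i => hloc (iM (m i))
  choose E₁ hE₁ using fun i => hpoly' (φ i s)
  let B₀ := ∑ i, (d i + E₁ i)
  have hB : ∀ i, d i + E₁ i ≤ B₀ := fun i =>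
    Finset.single_le_sum (f := fun i => d i + E₁ i) (fun _ _ => Nat.zero_le _) (Finset.mem_univ i)
  have hh : ∀ i, ∃ h, ρ' h = ρ' X₀ ^ (B₀ - d i) * ρ (φ i s) := fun i =>
    hE₁ i _ (by have := hB i; omega)
  choose h hh using hh
  have h1 : X₀ ^ B₀ • s' = ∑ i, h i • n i := by
    refine hiN ?_
    rw [LinearMap.map_smulₛₗ, ← hs, map_sum, ← hm s, map_sum, Finset.smul_sum, map_pow]
    refine Finset.sum_congr rfl fun i _ => ?_
    rw [LinearMap.map_smulₛₗ, LinearMap.map_smulₛₗ, hh, ← hn, smul_smul, smul_smul]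
    congr 1
    rw [mul_right_comm, ← pow_add, Nat.sub_add_cancel ((Nat.le_add_right _ _).trans (hB i))]
  have h2 : X₀ ^ B₀ * ψ s' = ∑ i, h i * ψ (n i) := by
    rw [← smul_eq_mul, ← map_smul, h1, map_sum]
    exact Finset.sum_congr rfl fun i _ => map_smul _ _ _
  choose E₂ hE₂ using fun i => hpoly (ψ (n i))
  refine ⟨∑ i, E₂ i, fun E' hE' => ?_⟩
  have hq : ∀ i, ∃ q, ρ q = ρ X₀ ^ (E' + d i) * ρ' (ψ (n i)) := fun i => by
    obtain ⟨q, hq⟩ := hE₂ i (E' + d i) (le_trans (le_trans
      (Finset.single_le_sum (f := E₂) (fun _ _ => Nat.zero_le _) (Finset.mem_univ i)) hE') (Nat.le_add_right _ _))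
    exact ⟨q, hq⟩
  choose q hq using hq
  refine ⟨∑ i, q i * φ i s, sum_mem fun i _ => Ideal.mul_mem_left _ _ ⟨φ i, rfl⟩, ?_⟩
  have hp : ∀ j, ρ X₀ ^ j * ρ' X₀ ^ j = 1 := fun j => by rw [← mul_pow, hX, one_pow]
  calc ρ X₀ ^ E' * ρ' (ψ s')
      = ρ X₀ ^ (E' + B₀) * ρ' (X₀ ^ B₀ * ψ s') := by
        rw [map_mul, map_pow, pow_add, mul_assoc, ← mul_assoc (ρ X₀ ^ B₀), hp, _root_.one_mul]
    _ = ρ (∑ i, q i * φ i s) := by
        rw [h2, map_sum, map_sum, Finset.mul_sum]
        refine Finset.sum_congr rfl fun i _ => ?_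
        rw [map_mul, map_mul, hh, hq]
        have hd : d i ≤ B₀ := (Nat.le_add_right _ _).trans (hB i)
        have e : ρ X₀ ^ (E' + B₀) * ρ' X₀ ^ (B₀ - d i) = ρ X₀ ^ (E' + d i) := by
          rw [show E' + B₀ = E' + d i + (B₀ - d i) by omega, pow_add, mul_assoc, hp, _root_.mul_one]
        rw [← e]
        ring

end Transfer

section Local
variable {A : Type u} [CommRing A] [IsLocalRing A]

/-- The extension of the maximal ideal to the polynomial ring. -/
noncomputable def maxExt (A : Type u) [CommRing A] [IsLocalRing A] : Ideal A[X] :=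
  (IsLocalRing.maximalIdeal A).map C

theorem subsingleton_of_killed {M : Type u} [AddCommGroup M] [Module A[X] M] [Module.Finite A[X] M]
    (q : A[X]) (E : ℕ) (hdeg : q.natDegree ≤ E) (hu : IsUnit (q.coeff E)) (hq : ∀ m : M, q • m = 0)
    (hM : (⊤ : Submodule A[X] M) ≤ maxExt A • ⊤) : Subsingleton M := by
  classical
  letI : Module A M := Module.compHom M (C : A →+* A[X])
  obtain ⟨w, hw⟩ := hu
  let q' := C (↑w⁻¹ : A) * q
  have hmon : q'.Monic := monic_of_natDegree_le_of_coeff_eq_one E ((natDegree_C_mul_le _ _).trans hdeg)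
    (by rw [coeff_C_mul, ← hw, Units.inv_mul])
  obtain ⟨s, hs⟩ := (Module.Finite.fg_top : (⊤ : Submodule A[X] M).FG)
  haveI : Module.Finite A M := ⟨⟨(s ×ˢ Finset.range (E + 1)).image fun z => (X : A[X]) ^ z.2 • z.1, by
    refine eq_top_iff.2 fun x _ => ?_
    obtain ⟨c, -, rfl⟩ := Submodule.mem_span_finset.1 (hs.ge (Submodule.mem_top (x := x)))
    refine sum_mem fun b hb => ?_
    rw [← modByMonic_add_div (c b) q', add_smul, mul_comm q', mul_smul _ q',
      show q' • b = 0 by rw [mul_smul, hq, smul_zero], smul_zero, add_zero,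
      (c b %ₘ q').as_sum_range_C_mul_X_pow, Finset.sum_smul]
    refine sum_mem fun i hi => ?_
    rw [mul_smul]
    refine Submodule.smul_mem (Submodule.span A _) _ (Submodule.subset_span
      (Finset.mem_coe.2 (Finset.mem_image.2 ⟨(b, i), Finset.mem_product.2 ⟨hb, Finset.mem_range.2 ?_⟩, rfl⟩)))
    have h1 := natDegree_modByMonic_le (c b) hmon
    have h2 : q'.natDegree ≤ E := (natDegree_C_mul_le _ _).trans hdeg
    have h3 := Finset.mem_range.1 hi
    omega⟩⟩
  have hle : (⊤ : Submodule A M) ≤ IsLocalRing.maximalIdeal A • ⊤ := fun x _ => by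
    have hx : x ∈ maxExt A • (⊤ : Submodule A[X] M) := hM trivial
    refine Submodule.smul_induction_on hx (fun r hr y _ => ?_) fun y z hy hz => add_mem hy hz
    rw [r.as_sum_range_C_mul_X_pow, Finset.sum_smul]
    refine sum_mem fun i _ => ?_
    rw [mul_smul]
    exact Submodule.smul_mem_smul (Ideal.mem_map_C_iff.1 hr i) (show (X : A[X]) ^ i • y ∈ (⊤ : Submodule A M) from trivial)
  have h := Submodule.eq_bot_of_le_smul_of_le_jacobson_bot _ _ Module.Finite.fg_top hle
    (IsLocalRing.maximalIdeal_le_jacobson _)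
  exact ⟨fun a b => ((Submodule.eq_bot_iff _).1 h a trivial).trans ((Submodule.eq_bot_iff _).1 h b trivial).symm⟩

theorem eq_top_of_monic_mem (I : Ideal A[X]) (q : A[X]) (E : ℕ) (hdeg : q.natDegree ≤ E)
    (hu : IsUnit (q.coeff E)) (hq : q ∈ I) (f : A[X]) (hf : f ∈ I) (hf1 : f - 1 ∈ maxExt A) : I = ⊤ := by
  have := subsingleton_of_killed (M := A[X] ⧸ I) q E hdeg hu (fun m => by
    obtain ⟨y, rfl⟩ := Ideal.Quotient.mk_surjective m
    show Ideal.Quotient.mk I (q * y) = 0
    exact Ideal.Quotient.eq_zero_iff_mem.2 (I.mul_mem_right _ hq)) (fun m _ => by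
    obtain ⟨y, rfl⟩ := Ideal.Quotient.mk_surjective m
    have : Ideal.Quotient.mk I y = (1 - f) • Ideal.Quotient.mk I y := by
      show Ideal.Quotient.mk I y = Ideal.Quotient.mk I ((1 - f) * y)
      rw [Ideal.Quotient.eq]
      have : y - (1 - f) * y = f * y := by ring
      rw [this]
      exact I.mul_mem_right _ hf
    rw [this]
    exact Submodule.smul_mem_smul (by rw [← neg_sub]; exact neg_mem hf1) trivial)
  rw [Ideal.eq_top_iff_one, ← Ideal.Quotient.eq_zero_iff_mem]
  exact Subsingleton.elim _ _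

omit [IsLocalRing A] in
theorem eq_top_of_X_pow_mem (I : Ideal A[X]) (g : A[X]) (hg : g ∈ I) (hu : IsUnit (g.coeff 0)) :
    ∀ E : ℕ, (X : A[X]) ^ E ∈ I → I = ⊤ := by
  intro E
  induction E with
  | zero => intro h; rw [pow_zero] at h; exact (Ideal.eq_top_iff_one I).2 h
  | succ E ih =>
    intro h
    obtain ⟨w, hw⟩ := hu
    refine ih ?_
    have h1 : (X : A[X]) ^ E * C (g.coeff 0) = g * X ^ E - g.divX * X ^ (E + 1) := by
      linear_combination (X : A[X]) ^ E * X_mul_divX_add g
    have h2 : (X : A[X]) ^ E * C (g.coeff 0) ∈ I := h1 ▸ sub_mem (I.mul_mem_right _ hg) (I.mul_mem_left _ h)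
    have h3 := I.mul_mem_right (C (↑w⁻¹ : A)) h2
    rwa [mul_assoc, ← map_mul, ← hw, Units.mul_inv, map_one, _root_.mul_one] at h3

end Local

end Groth.Agent.HorrocksLib
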