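import Mathlib

/-!
Quillen patching for idempotent matrices over a polynomial ring.
-/

set_option autoImplicit false

universe u

namespace Groth.Agent.HorrocksLib

open Polynomial

section
variable {A : Type u} [CommRing A]

/-- The substitution `X ↦ X + aY` from `A[X]` into `A[X][Y]`. -/
noncomputable def shift (a : A) : A[X] →+* A[X][X] :=
  Polynomial.eval₂RingHom ((C).comp C) (C X + C (C a) * X)

/-- Rescaling the second variable. -/
noncomputable def scaleY (a : A) : A[X][X] →+* A[X][X] :=
  Polynomial.eval₂RingHom C (C (C a) * X)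

/-- Shifting the first variable by a multiple of the second. -/
noncomputable def shiftX (a : A) : A[X][X] →+* A[X][X] :=
  Polynomial.eval₂RingHom (shift a) X

theorem shift_zero : shift (0 : A) = C := by
  apply Polynomial.ringHom_ext <;> simp [shift]

theorem shiftX_comp_C (a : A) : (shiftX a).comp C = shift a := by
  apply RingHom.ext; intro f; simp [shiftX]

theorem shiftX_comp_shift (a b : A) : (shiftX b).comp (shift a) = shift (a + b) := by
  apply Polynomial.ringHom_ext
  · intro r; simp [shift, shiftX]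
  · simp [shift, shiftX]; ring

theorem scaleY_comp_C (a : A) : (scaleY a).comp C = C := by
  apply RingHom.ext; intro f; simp [scaleY]

theorem scaleY_comp_shift (a b : A) : (scaleY a).comp (shift b) = shift (a * b) := by
  apply Polynomial.ringHom_ext
  · intro r; simp [shift, scaleY]
  · simp [shift, scaleY]; ring

theorem scaleY_C (a : A) (f : A[X]) : scaleY a (C f) = C f := by simp [scaleY]

theorem scaleY_X_mul (a : A) (d : A[X][X]) : scaleY a (X * d) = X * scaleY a (C (C a) * d) := by
  simp [scaleY]; ring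

variable {n : Type} [Fintype n]

/-- The elements `a` for which `e(X)` and `e(X + aY)` have isomorphic images. -/
noncomputable def patchIdeal (e : Matrix n n A[X]) (he : e * e = e) : Ideal A where
  carrier := {a | ∃ U V : Matrix n n A[X][X], U * V = e.map C ∧ V * U = e.map (shift a)}
  zero_mem' := by
    refine ⟨e.map C, e.map C, ?_, ?_⟩
    · rw [← Matrix.map_mul, he]
    · rw [shift_zero, ← Matrix.map_mul, he]
  add_mem' := by
    rintro a b ⟨U', V', h1', h2'⟩ ⟨U, V, h1, h2⟩
    have k1 : U'.map (shiftX b) * V'.map (shiftX b) = e.map (shift b) := by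
      rw [← Matrix.map_mul, h1', Matrix.map_map, ← RingHom.coe_comp, shiftX_comp_C]
    have k2 : V'.map (shiftX b) * U'.map (shiftX b) = e.map (shift (a + b)) := by
      rw [← Matrix.map_mul, h2', Matrix.map_map, ← RingHom.coe_comp, shiftX_comp_shift]
    refine ⟨U * U'.map (shiftX b), V'.map (shiftX b) * V, ?_, ?_⟩
    · calc U * U'.map (shiftX b) * (V'.map (shiftX b) * V)
          = U * (U'.map (shiftX b) * V'.map (shiftX b)) * V := by simp only [Matrix.mul_assoc]
        _ = (U * V) * (U * V) := by rw [k1, ← h2]; simp only [Matrix.mul_assoc]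
        _ = e.map C := by rw [h1, ← Matrix.map_mul, he]
    · calc V'.map (shiftX b) * V * (U * U'.map (shiftX b))
          = V'.map (shiftX b) * (V * U) * U'.map (shiftX b) := by simp only [Matrix.mul_assoc]
        _ = (V'.map (shiftX b) * U'.map (shiftX b)) * (V'.map (shiftX b) * U'.map (shiftX b)) := by
            rw [h2, ← k1]; simp only [Matrix.mul_assoc]
        _ = e.map (shift (a + b)) := by rw [k2, ← Matrix.map_mul, he]
  smul_mem' := by
    rintro r a ⟨U, V, h1, h2⟩
    refine ⟨U.map (scaleY r), V.map (scaleY r), ?_, ?_⟩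
    · rw [← Matrix.map_mul, h1, Matrix.map_map, ← RingHom.coe_comp, scaleY_comp_C]
    · rw [← Matrix.map_mul, h2, Matrix.map_map, ← RingHom.coe_comp, scaleY_comp_shift, smul_eq_mul]

variable (p : Ideal A) [p.IsPrime]

/-- Extension of scalars of `A[X][Y]` to the local ring. -/
noncomputable abbrev locMap : A[X][X] →+* (Localization.AtPrime p)[X][X] :=
  Polynomial.mapRingHom (Polynomial.mapRingHom (algebraMap A (Localization.AtPrime p)))

theorem exists_smul_mem_range (x : (Localization.AtPrime p)[X][X]) :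
    ∃ s ∈ p.primeCompl, ∃ y : A[X][X], locMap p y = C (C (algebraMap A _ s)) * x := by
  induction x using Polynomial.induction_on' with
  | add x y hx hy =>
    obtain ⟨s, hs, x', hx'⟩ := hx
    obtain ⟨t, ht, y', hy'⟩ := hy
    refine ⟨s * t, mul_mem hs ht, C (C t) * x' + C (C s) * y', ?_⟩
    rw [map_add, map_mul (locMap p), map_mul (locMap p), hx', hy']
    simp [map_mul]; ring
  | monomial i f =>
    obtain ⟨s, hs, y, hy⟩ : ∃ s ∈ p.primeCompl, ∃ y : A[X],
        y.map (algebraMap A (Localization.AtPrime p)) = C (algebraMap A _ s) * f := by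
      induction f using Polynomial.induction_on' with
      | add x y hx hy =>
        obtain ⟨s, hs, x', hx'⟩ := hx
        obtain ⟨t, ht, y', hy'⟩ := hy
        refine ⟨s * t, mul_mem hs ht, C t * x' + C s * y', ?_⟩
        simp [hx', hy']; ring
      | monomial j c =>
        obtain ⟨⟨a, s⟩, hs⟩ := IsLocalization.surj p.primeCompl c
        refine ⟨s, s.2, monomial j a, ?_⟩
        simp [← hs, mul_comm]
    refine ⟨s, hs, monomial i y, ?_⟩
    simp [hy, C_mul_monomial]

theorem exists_smul_mem_range_matrix (x : Matrix n n (Localization.AtPrime p)[X][X]) :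
    ∃ s ∈ p.primeCompl, ∃ y : Matrix n n A[X][X], y.map (locMap p) = C (C (algebraMap A (Localization.AtPrime p) s)) • x := by
  classical
  choose s hs y hy using fun q : n × n => exists_smul_mem_range p (x q.1 q.2)
  refine ⟨∏ q, s q, prod_mem fun q _ => hs q,
    Matrix.of fun i j => C (C (∏ q ∈ Finset.univ.erase (i, j), s q)) * y (i, j), ?_⟩
  ext1 i j
  rw [Matrix.map_apply, Matrix.of_apply, map_mul, hy, Matrix.smul_apply, smul_eq_mul,
    ← Finset.prod_erase_mul Finset.univ s (Finset.mem_univ (i, j))]
  simp [map_mul]; ring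

theorem exists_smul_eq_zero (d : A[X][X]) (hd : locMap p d = 0) :
    ∃ s ∈ p.primeCompl, C (C s) * d = 0 := by
  classical
  have h : ∀ i j, ∃ s ∈ p.primeCompl, s * (d.coeff i).coeff j = 0 := fun i j => by
    have h0 := congrArg (fun f : (Localization.AtPrime p)[X][X] => (f.coeff i).coeff j) hd
    simp only [locMap, coe_mapRingHom, coeff_map, coeff_zero] at h0
    obtain ⟨⟨s, hs⟩, h1⟩ := (IsLocalization.map_eq_zero_iff p.primeCompl _ _).1 h0
    exact ⟨s, hs, h1⟩
  choose s hs h using h
  refine ⟨∏ i ∈ d.support, ∏ j ∈ (d.coeff i).support, s i j,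
    prod_mem fun i _ => prod_mem fun j _ => hs i j, Polynomial.ext fun i => Polynomial.ext fun j => ?_⟩
  rw [coeff_C_mul, coeff_C_mul, coeff_zero, coeff_zero]
  by_cases hi : i ∈ d.support
  · by_cases hj : j ∈ (d.coeff i).support
    · rw [← Finset.prod_erase_mul _ _ hi, ← Finset.prod_erase_mul _ _ hj, mul_assoc, mul_assoc, h, mul_zero,
        mul_zero]
    · rw [notMem_support_iff.1 hj, mul_zero]
  · rw [notMem_support_iff.1 hi, coeff_zero, mul_zero]

theorem exists_smul_eq_zero_matrix (d : Matrix n n A[X][X]) (hd : d.map (locMap p) = 0) :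
    ∃ s ∈ p.primeCompl, ∀ i j, C (C s) * d i j = 0 := by
  classical
  choose s hs h using fun q : n × n => exists_smul_eq_zero p (d q.1 q.2) (congrFun (congrFun hd q.1) q.2)
  refine ⟨∏ q, s q, prod_mem fun q _ => hs q, fun i j => ?_⟩
  rw [← Finset.prod_erase_mul Finset.univ s (Finset.mem_univ (i, j)), map_mul, map_mul, mul_assoc, h,
    mul_zero]

/-- Local triviality puts an element outside `p` in the patching ideal. -/
theorem exists_notMem_patchIdeal (e : Matrix n n A[X]) (he : e * e = e) (r : ℕ)
    (P : Matrix n (Fin r) (Localization.AtPrime p)[X]) (Q : Matrix (Fin r) n (Localization.AtPrime p)[X])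
    (hPQ : P * Q = e.map (Polynomial.mapRingHom (algebraMap A (Localization.AtPrime p)))) (hQP : Q * P = 1) :
    ∃ a ∈ patchIdeal e he, a ∉ p := by
  classical
  let L := Localization.AtPrime p
  let f := algebraMap A L
  let F := locMap p
  have hFC : F.comp C = (C).comp (Polynomial.mapRingHom f) := by
    apply RingHom.ext; intro g; simp [F, f, L]
  have hFshift : ∀ a, F.comp (shift a) = (shift (f a)).comp (Polynomial.mapRingHom f) := fun a => by
    apply Polynomial.ringHom_ext
    · intro g; simp [F, f, L, shift]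
    · simp [F, f, L, shift]
  have hFscale : ∀ a g, F (scaleY a g) = scaleY (f a) (F g) := fun a g => by
    induction g using Polynomial.induction_on' with
    | add x y hx hy => simp only [map_add, hx, hy]
    | monomial i g => simp [F, f, L, scaleY, Polynomial.map_pow]
  let e0 : Matrix n n L[X][X] := (P * Q).map C
  let u : Matrix n n L[X][X] := P.map C * Q.map (shift (1 : L))
  let v : Matrix n n L[X][X] := P.map (shift (1 : L)) * Q.map C
  have huv : u * v = e0 := by
    calc u * v = P.map C * ((Q * P).map (shift (1 : L))) * Q.map C := by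
          simp only [u, v, Matrix.map_mul, Matrix.mul_assoc]
      _ = e0 := by rw [hQP, Matrix.map_one _ (map_zero _) (map_one _), Matrix.mul_one, ← Matrix.map_mul]
  have hvu : v * u = (P * Q).map (shift (1 : L)) := by
    calc v * u = P.map (shift (1 : L)) * ((Q * P).map C) * Q.map (shift (1 : L)) := by
          simp only [u, v, Matrix.map_mul, Matrix.mul_assoc]
      _ = _ := by rw [hQP, Matrix.map_one _ (map_zero _) (map_one _), Matrix.mul_one, ← Matrix.map_mul]
  have hev : (Polynomial.evalRingHom (0 : L[X])).comp (shift (1 : L)) = RingHom.id _ := by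
    apply Polynomial.ringHom_ext <;> simp [shift]
  have hev' : (Polynomial.evalRingHom (0 : L[X])).comp C = RingHom.id _ := by
    apply RingHom.ext; simp
  have hdiv : ∀ w : Matrix n n L[X][X], w.map (Polynomial.evalRingHom (0 : L[X])) = P * Q →
      ∃ w1, w = e0 + (X : L[X][X]) • w1 := fun w hw => by
    refine ⟨Matrix.of fun i j => (w i j).divX, ?_⟩
    ext1 i j
    rw [Matrix.add_apply, Matrix.smul_apply, Matrix.of_apply, smul_eq_mul]
    have h := congrFun (congrFun hw i) j
    rw [Matrix.map_apply, coe_evalRingHom, ← coeff_zero_eq_eval_zero] at h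
    show _ = C ((P * Q) i j) + _
    rw [← h, add_comm, X_mul_divX_add]
  obtain ⟨u₁, hu₁⟩ := hdiv u (by
    simp only [u, Matrix.map_mul, Matrix.map_map, ← RingHom.coe_comp, hev, hev']
    rfl)
  obtain ⟨v₁, hv₁⟩ := hdiv v (by
    simp only [v, Matrix.map_mul, Matrix.map_map, ← RingHom.coe_comp, hev, hev']
    rfl)
  obtain ⟨s₁, hs₁, U₁, hU₁⟩ := exists_smul_mem_range_matrix p u₁
  obtain ⟨s₂, hs₂, V₁, hV₁⟩ := exists_smul_mem_range_matrix p v₁
  let s := s₁ * s₂
  let U : Matrix n n A[X][X] := e.map C + (X : A[X][X]) • (C (C s₂) • U₁).map (scaleY s)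
  let V : Matrix n n A[X][X] := e.map C + (X : A[X][X]) • (C (C s₁) • V₁).map (scaleY s)
  have he0 : (e.map C).map F = e0 := by
    show _ = (P * Q).map C
    rw [hPQ, Matrix.map_map, Matrix.map_map, ← RingHom.coe_comp, hFC, RingHom.coe_comp]
  have hlift : ∀ (w1 : Matrix n n L[X][X]) (W : Matrix n n A[X][X]) (a b : A), a * b = s →
      W.map F = C (C (f a)) • w1 → (e.map C + (X : A[X][X]) • (C (C b) • W).map (scaleY s)).map F =
        (e0 + (X : L[X][X]) • w1).map (scaleY (f s)) := by
    intro w1 W a b hab hW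
    ext1 i j
    have h1 := congrFun (congrFun he0 i) j
    have h2 : F (W i j) = C (C (f a)) * w1 i j := congrFun (congrFun hW i) j
    simp only [Matrix.map_apply, Matrix.add_apply, Matrix.smul_apply, smul_eq_mul, map_add] at h1 ⊢
    rw [scaleY_X_mul, map_mul, hFscale, map_mul F, h2, h1]
    rw [show scaleY (f s) (e0 i j) = e0 i j from scaleY_C _ _]
    rw [show F (C (C b)) = C (C (f b)) by simp [F, f, L], show F (X : A[X][X]) = X by simp [F], ← mul_assoc,
      ← map_mul, ← map_mul, ← map_mul, mul_comm b a, hab]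
  have hUF : U.map F = u.map (scaleY (f s)) := by rw [hu₁]; exact hlift u₁ U₁ s₁ s₂ rfl hU₁
  have hVF : V.map F = v.map (scaleY (f s)) := by rw [hv₁]; exact hlift v₁ V₁ s₂ s₁ (mul_comm _ _) hV₁
  have hD₁ : (U * V - e.map C).map F = 0 := by
    rw [Matrix.map_sub _ (map_sub F), Matrix.map_mul, hUF, hVF, ← Matrix.map_mul, huv, he0]
    ext1 i j
    rw [Matrix.sub_apply, Matrix.zero_apply, Matrix.map_apply, sub_eq_zero]
    exact scaleY_C _ _
  have hD₂ : (V * U - e.map (shift s)).map F = 0 := by
    rw [Matrix.map_sub _ (map_sub F), Matrix.map_mul, hUF, hVF, ← Matrix.map_mul, hvu, hPQ,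
      Matrix.map_map, Matrix.map_map, Matrix.map_map, ← RingHom.coe_comp, ← RingHom.coe_comp,
      ← RingHom.coe_comp, hFshift, scaleY_comp_shift, _root_.mul_one]
    ext1 i j
    rw [Matrix.sub_apply, Matrix.zero_apply, sub_self]
  have hker : ∀ D : Matrix n n A[X][X], D.map F = 0 → (∀ i j, (D i j).eval 0 = 0) →
      ∃ t ∈ p.primeCompl, ∀ t', D.map (scaleY (t * t')) = 0 := fun D hD h0 => by
    let D' : Matrix n n A[X][X] := Matrix.of fun i j => (D i j).divX
    have hD' : ∀ i j, D i j = X * D' i j := fun i j => by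
      have h := X_mul_divX_add (D i j)
      rw [coeff_zero_eq_eval_zero, h0, map_zero, add_zero] at h
      exact h.symm
    obtain ⟨t, ht, h⟩ := exists_smul_eq_zero_matrix p D' (by
      ext1 i j
      have h := congrFun (congrFun hD i) j
      rw [Matrix.map_apply, hD', map_mul, show F (X : A[X][X]) = X by simp [F]] at h
      rw [Matrix.map_apply, Matrix.zero_apply]
      refine Polynomial.ext fun k => ?_
      rw [← coeff_X_mul (F (D' i j)) k, h]
      simp)
    refine ⟨t, ht, fun t' => ?_⟩
    ext1 i j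
    rw [Matrix.map_apply, hD', scaleY_X_mul, map_mul C, map_mul C, mul_comm (C (C t)), mul_assoc, h, mul_zero,
      map_zero, mul_zero, Matrix.zero_apply]
  have hU0 : ∀ W : Matrix n n A[X][X],
      (e.map C + (X : A[X][X]) • W).map (Polynomial.evalRingHom (0 : A[X])) = e := fun W => by
    ext1 i j; simp
  have hevA : (Polynomial.evalRingHom (0 : A[X])).comp (shift s) = RingHom.id _ := by
    apply Polynomial.ringHom_ext <;> simp [shift]
  obtain ⟨t₁, ht₁, h₁⟩ := hker _ hD₁ (fun i j => by
    show ((U * V - e.map C).map (Polynomial.evalRingHom (0 : A[X]))) i j = 0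
    rw [Matrix.map_sub _ (map_sub _), Matrix.map_mul, hU0, hU0, he]
    simp)
  obtain ⟨t₂, ht₂, h₂⟩ := hker _ hD₂ (fun i j => by
    show ((V * U - e.map (shift s)).map (Polynomial.evalRingHom (0 : A[X]))) i j = 0
    rw [Matrix.map_sub _ (map_sub _), Matrix.map_mul, hU0, hU0, he, Matrix.map_map, ← RingHom.coe_comp, hevA]
    simp)
  refine ⟨t₁ * t₂ * s, ⟨U.map (scaleY (t₁ * t₂)), V.map (scaleY (t₁ * t₂)), ?_, ?_⟩,
    show t₁ * t₂ * s ∈ p.primeCompl from mul_mem (mul_mem ht₁ ht₂) (mul_mem hs₁ hs₂)⟩
  · have h := h₁ t₂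
    rw [Matrix.map_sub _ (map_sub _), sub_eq_zero, Matrix.map_mul, Matrix.map_map, ← RingHom.coe_comp,
      scaleY_comp_C] at h
    exact h
  · have h := h₂ t₁
    rw [Matrix.map_sub _ (map_sub _), sub_eq_zero, Matrix.map_mul, Matrix.map_map, ← RingHom.coe_comp,
      scaleY_comp_shift, mul_comm t₂ t₁] at h
    exact h

end

/-- Quillen patching: an idempotent matrix over `A[X]` that is locally trivial is extended from `A`. -/
theorem exists_conj_eval_zero {A : Type u} [CommRing A] {n : Type} [Fintype n]
    (e : Matrix n n A[X]) (he : e * e = e)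
    (h : ∀ (p : Ideal A) [p.IsMaximal], ∃ (r : ℕ) (P : Matrix n (Fin r) (Localization.AtPrime p)[X])
      (Q : Matrix (Fin r) n (Localization.AtPrime p)[X]),
      P * Q = e.map (Polynomial.mapRingHom (algebraMap A (Localization.AtPrime p))) ∧ Q * P = 1) :
    ∃ U V : Matrix n n A[X], U * V = (e.map (Polynomial.eval 0)).map C ∧ V * U = e := by
  have htop : patchIdeal e he = ⊤ := by
    by_contra hne
    obtain ⟨p, hp, hle⟩ := Ideal.exists_le_maximal _ hne
    haveI := hp
    obtain ⟨r, P, Q, hPQ, hQP⟩ := h p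
    obtain ⟨a, ha, hap⟩ := exists_notMem_patchIdeal p e he r P Q hPQ hQP
    exact hap (hle ha)
  obtain ⟨U, V, hUV, hVU⟩ := (htop.ge trivial : (1 : A) ∈ patchIdeal e he)
  let ε : A[X][X] →+* A[X] :=
    Polynomial.eval₂RingHom ((C : A →+* A[X]).comp (Polynomial.evalRingHom 0)) X
  refine ⟨U.map ε, V.map ε, ?_, ?_⟩
  · rw [← Matrix.map_mul, hUV]
    ext1 i j
    simp [ε]
  · rw [← Matrix.map_mul, hVU, Matrix.map_map, ← RingHom.coe_comp]
    have : ε.comp (shift (1 : A)) = RingHom.id _ := by
      apply Polynomial.ringHom_ext <;> simp [ε, shift]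
    rw [this]
    simp

end Groth.Agent.HorrocksLib
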