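import Groth.Agent.HorrocksLib.Free
import Groth.Agent.HorrocksLib.Patching

/-!
A finite projective module over `A[X]` is extended from `A` iff it extends to the projective line.
-/

set_option autoImplicit false

universe u

namespace Groth.Agent.HorrocksLib

open Polynomial TensorProduct
open scoped LaurentPolynomial

variable {A : Type u} [CommRing A]

/-- Extension of the coefficients of a Laurent polynomial. -/
noncomputable def laurentMap {B : Type u} [CommRing B] (f : A →+* B) : A[T;T⁻¹] →+* B[T;T⁻¹] :=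
  LaurentPolynomial.eval₂ ((LaurentPolynomial.C (R := B)).comp f) (LaurentPolynomial.isUnit_T (R := B) 1).unit

theorem laurentMap_chart0 {B : Type u} [CommRing B] (f : A →+* B) :
    (laurentMap f).comp chart0 = (chart0 (A := B)).comp (Polynomial.mapRingHom f) := by
  apply Polynomial.ringHom_ext
  · intro a
    simp [laurentMap]
  · simp [laurentMap]

theorem laurentMap_chart1 {B : Type u} [CommRing B] (f : A →+* B) :
    (laurentMap f).comp chart1 = (chart1 (A := B)).comp (Polynomial.mapRingHom f) := by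
  apply Polynomial.ringHom_ext
  · intro a
    simp [laurentMap, chart1_apply]
  · have h1 : (laurentMap f) (chart0 X) * (laurentMap f) (chart1 X) = 1 := by
      rw [← map_mul, chart0_X_mul_chart1_X, map_one]
    have h2 := RingHom.congr_fun (laurentMap_chart0 f) X
    simp only [RingHom.comp_apply] at h2 ⊢
    rw [show Polynomial.mapRingHom f X = X by simp] at h2 ⊢
    rw [h2] at h1
    calc laurentMap f (chart1 X) = (chart1 X * chart0 X) * laurentMap f (chart1 X) := by
          rw [mul_comm (chart1 X : B[T;T⁻¹]), chart0_X_mul_chart1_X, _root_.one_mul]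
      _ = chart1 X := by rw [mul_assoc, h1, _root_.mul_one]

theorem extended_of_matrix {n m : Type} [Fintype n] [Fintype m] (e : Matrix n n A[X]) (e' : Matrix m m A[X])
    (he : e * e = e) (he' : e' * e' = e') (c : Matrix n m A[T;T⁻¹]) (d : Matrix m n A[T;T⁻¹])
    (hcd : c * d = e.map chart0) (hdc : d * c = e'.map chart1) :
    ∃ U V : Matrix n n A[X], U * V = (e.map (Polynomial.eval 0)).map C ∧ V * U = e := by
  refine exists_conj_eval_zero e he fun p _ => ?_
  let f := algebraMap A (Localization.AtPrime p)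
  refine exists_trivialization (e.map (Polynomial.mapRingHom f)) (e'.map (Polynomial.mapRingHom f))
    (by rw [← Matrix.map_mul, he]) (by rw [← Matrix.map_mul, he']) (c.map (laurentMap f)) (d.map (laurentMap f)) ?_ ?_
  · rw [← Matrix.map_mul, hcd, Matrix.map_map, Matrix.map_map, ← RingHom.coe_comp, laurentMap_chart0]
    rfl
  · rw [← Matrix.map_mul, hdc, Matrix.map_map, Matrix.map_map, ← RingHom.coe_comp, laurentMap_chart1]
    rfl

theorem exists_matrix_of_gluing {M N : Type u} [AddCommGroup M] [Module A[X] M] [AddCommGroup N] [Module A[X] N]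
    [Module.Finite A[X] M] [Module.Projective A[X] M] [Module.Finite A[X] N] [Module.Projective A[X] N]
    (g : (A[T;T⁻¹] ⊗[A[X]] M) →ₛₗ[(LaurentPolynomial.invert (R := A)).toRingEquiv.toRingHom]
      (A[T;T⁻¹] ⊗[A[X]] N)) (hg : Function.Bijective g) :
    ∃ (n m : ℕ) (x : Fin n → M) (φ : Fin n → (M →ₗ[A[X]] A[X])) (e' : Matrix (Fin m) (Fin m) A[X])
      (c : Matrix (Fin n) (Fin m) A[T;T⁻¹]) (d : Matrix (Fin m) (Fin n) A[T;T⁻¹]),
      (∀ y, ∑ i, φ i y • x i = y) ∧ e' * e' = e' ∧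
      c * d = (Matrix.of fun i j => φ i (x j)).map chart0 ∧ d * c = e'.map chart1 := by
  obtain ⟨n, x, φ, hx⟩ := exists_dualBasis A[X] M
  obtain ⟨m, y, ψ, hy⟩ := exists_dualBasis A[X] N
  let Φ : Fin n → (A[T;T⁻¹] ⊗[A[X]] M →ₗ[A[T;T⁻¹]] A[T;T⁻¹]) := fun i =>
    ((Algebra.linearMap A[X] A[T;T⁻¹]).comp (φ i)).liftBaseChange A[T;T⁻¹]
  let Ψ : Fin m → (A[T;T⁻¹] ⊗[A[X]] N →ₗ[A[T;T⁻¹]] A[T;T⁻¹]) := fun i =>
    ((Algebra.linearMap A[X] A[T;T⁻¹]).comp (ψ i)).liftBaseChange A[T;T⁻¹]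
  have hΦ : ∀ i w, Φ i (1 ⊗ₜ w) = chart0 (φ i w) := fun i w => by
    simp [Φ, LaurentPolynomial.algebraMap_eq_toLaurent]
  have hΨ : ∀ i w, Ψ i (1 ⊗ₜ w) = chart0 (ψ i w) := fun i w => by
    simp [Ψ, LaurentPolynomial.algebraMap_eq_toLaurent]
  have hexp : ∀ {P : Type u} [AddCommGroup P] [Module A[X] P] {k : ℕ} (v : Fin k → P)
      (χ : Fin k → (P →ₗ[A[X]] A[X])), (∀ w, ∑ i, χ i w • v i = w) → ∀ z : A[T;T⁻¹] ⊗[A[X]] P,
      ∑ i, ((Algebra.linearMap A[X] A[T;T⁻¹]).comp (χ i)).liftBaseChange A[T;T⁻¹] z • ((1 : A[T;T⁻¹]) ⊗ₜ[A[X]] v i) = z := by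
    intro P _ _ k v χ hv z
    induction z using TensorProduct.induction_on with
    | zero => simp
    | tmul a w =>
      conv_rhs => rw [← hv w, tmul_sum]
      refine Finset.sum_congr rfl fun i _ => ?_
      rw [LinearMap.liftBaseChange_tmul, smul_tmul', ← smul_tmul]
      congr 1
      simp [Algebra.smul_def, mul_comm]
    | add z₁ z₂ h₁ h₂ => simp only [map_add, add_smul, Finset.sum_add_distrib, h₁, h₂]
  let gi := Function.surjInv hg.2
  have hgi : ∀ z, g (gi z) = z := Function.surjInv_eq hg.2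
  let σ : A[T;T⁻¹] ≃ₐ[A] A[T;T⁻¹] := LaurentPolynomial.invert
  have hσσ : ∀ a, σ (σ a) = a := fun a => (LaurentPolynomial.invert (R := A)).left_inv a
  have hgs : ∀ (a : A[T;T⁻¹]) (z : A[T;T⁻¹] ⊗[A[X]] M), g (a • z) = σ a • g z := fun a z =>
    LinearMap.map_smulₛₗ g a z
  have hgis : ∀ (a : A[T;T⁻¹]) z, gi (a • z) = σ a • gi z := fun a z => hg.1 (by
    rw [hgs, hgi, hgi, hσσ])
  have hgiadd : ∀ (s : Finset (Fin m)) (z : Fin m → A[T;T⁻¹] ⊗[A[X]] N), gi (∑ i ∈ s, z i) = ∑ i ∈ s, gi (z i) :=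
    fun s z => hg.1 (by
      rw [hgi, map_sum]
      exact Finset.sum_congr rfl fun i _ => (hgi _).symm)
  refine ⟨n, m, x, φ, Matrix.of fun i j => ψ i (y j),
    Matrix.of fun i j => Φ i (gi (1 ⊗ₜ y j)), Matrix.of fun j i => σ (Ψ j (g (1 ⊗ₜ x i))), hx, ?_, ?_, ?_⟩
  · ext1 i j
    simp only [Matrix.mul_apply, Matrix.of_apply]
    conv_rhs => rw [← hy (y j), map_sum]
    exact Finset.sum_congr rfl fun l _ => by rw [map_smul, smul_eq_mul, mul_comm]
  · ext1 i l
    simp only [Matrix.mul_apply, Matrix.of_apply, Matrix.map_apply]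
    have h : gi (g (1 ⊗ₜ x l)) = 1 ⊗ₜ x l := hg.1 (hgi _)
    rw [← hΦ]
    conv_rhs => rw [← h, ← hexp y ψ hy (g (1 ⊗ₜ x l)), hgiadd, map_sum]
    exact Finset.sum_congr rfl fun j _ => by rw [hgis, map_smul, smul_eq_mul, mul_comm]
  · ext1 j l
    simp only [Matrix.mul_apply, Matrix.of_apply, Matrix.map_apply]
    rw [chart1_apply, ← hΨ, ← hgi (1 ⊗ₜ y l)]
    conv_rhs => rw [← hexp x φ hx (gi (1 ⊗ₜ y l)), map_sum, map_sum, map_sum]
    refine Finset.sum_congr rfl fun i _ => ?_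
    rw [hgs, map_smul, smul_eq_mul, map_mul, hgi]
    show _ = σ (σ _) * σ _
    rw [hσσ, mul_comm]

theorem extended_of_gluing {M N : Type u} [AddCommGroup M] [Module A[X] M] [AddCommGroup N] [Module A[X] N]
    [Module.Finite A[X] M] [Module.Projective A[X] M] [Module.Finite A[X] N] [Module.Projective A[X] N]
    (g : (A[T;T⁻¹] ⊗[A[X]] M) →ₛₗ[(LaurentPolynomial.invert (R := A)).toRingEquiv.toRingHom]
      (A[T;T⁻¹] ⊗[A[X]] N)) (hg : Function.Bijective g) :
    ∃ (P : Type u) (_ : AddCommGroup P) (_ : Module A P), Nonempty (M ≃ₗ[A[X]] (A[X] ⊗[A] P)) := by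
  classical
  obtain ⟨n, m, x, φ, e', c, d, hx, he', hcd, hdc⟩ := exists_matrix_of_gluing g hg
  let e : Matrix (Fin n) (Fin n) A[X] := Matrix.of fun i j => φ i (x j)
  have he : e * e = e := by
    ext1 i j
    simp only [e, Matrix.mul_apply, Matrix.of_apply]
    conv_rhs => rw [← hx (x j), map_sum]
    exact Finset.sum_congr rfl fun l _ => by rw [map_smul, smul_eq_mul, mul_comm]
  obtain ⟨U, V, hUV, hVU⟩ := extended_of_matrix e e' he he' c d hcd hdc
  let e0 : Matrix (Fin n) (Fin n) A := e.map (Polynomial.eval 0)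
  have he0 : e0 * e0 = e0 := by
    show e.map (Polynomial.evalRingHom 0) * e.map (Polynomial.evalRingHom 0) = e.map (Polynomial.evalRingHom 0)
    rw [← Matrix.map_mul, he]
  let P := LinearMap.range e0.mulVecLin
  let π : (Fin n → A[X]) →ₗ[A[X]] M := ∑ i, (LinearMap.proj i).smulRight (x i)
  let co : M →ₗ[A[X]] (Fin n → A[X]) := LinearMap.pi φ
  have hπco : ∀ z, π (co z) = z := fun z => by simpa [π, co] using hx z
  have hcoπ : ∀ w, co (π w) = e.mulVec w := fun w => funext fun i => by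
    simp [π, co, e, Matrix.mulVec, dotProduct, mul_comm]
  have hπe : ∀ w, π (e.mulVec w) = π w := fun w => by rw [← hcoπ, hπco]
  have hfix : ∀ v : P, e0.mulVec (v : Fin n → A) = v := fun ⟨v, w, hw⟩ => by
    subst hw
    show e0.mulVec (e0.mulVec w) = e0.mulVec w
    rw [Matrix.mulVec_mulVec, he0]
  let ι₀ : P →ₗ[A] (Fin n → A[X]) :=
    (LinearMap.pi fun i => (Algebra.linearMap A A[X]).comp (LinearMap.proj i)).comp P.subtype
  let G : A[X] ⊗[A] P →ₗ[A[X]] M := π.comp (V.mulVecLin.comp (ι₀.liftBaseChange A[X]))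
  let H : M →ₗ[A[X]] A[X] ⊗[A] P := ∑ i, ((LinearMap.proj i).comp (U.mulVecLin.comp co)).smulRight
    ((1 : A[X]) ⊗ₜ[A] (⟨e0.mulVec (Pi.single i 1), Pi.single i 1, rfl⟩ : P))
  have hι : ∀ (a : A[X]) (v : P), (ι₀.liftBaseChange A[X]) (a ⊗ₜ v) = a • (C ∘ (v : Fin n → A)) := fun a v => by
    rw [LinearMap.liftBaseChange_tmul]; rfl
  refine ⟨P, inferInstance, inferInstance, ⟨LinearEquiv.ofLinear H G ?_ ?_⟩⟩
  · refine TensorProduct.AlgebraTensorModule.ext fun a v => ?_
    show H (π (V.mulVec (ι₀.liftBaseChange A[X] (a ⊗ₜ v)))) = a ⊗ₜ v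
    rw [hι, Matrix.mulVec_smul, map_smul, map_smul]
    have h1 : U.mulVec (co (π (V.mulVec (C ∘ (v : Fin n → A))))) = C ∘ (v : Fin n → A) := by
      rw [hcoπ, ← hVU, Matrix.mulVec_mulVec, Matrix.mulVec_mulVec,
        show U * (V * U) * V = (U * V) * (U * V) by simp only [Matrix.mul_assoc], hUV, ← Matrix.map_mul]
      rw [show e.map (Polynomial.eval 0) = e0 from rfl, he0]
      funext i
      rw [← RingHom.map_mulVec, hfix]
      rfl
    have h2 : H (π (V.mulVec (C ∘ (v : Fin n → A)))) = 1 ⊗ₜ v := by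
      simp only [H, LinearMap.coe_sum, Finset.sum_apply, LinearMap.smulRight_apply, LinearMap.comp_apply,
        LinearMap.proj_apply, Matrix.mulVecLin_apply, h1, Function.comp_apply]
      have : ∀ i, C ((v : Fin n → A) i) • ((1 : A[X]) ⊗ₜ[A] (⟨e0.mulVec (Pi.single i 1), Pi.single i 1, rfl⟩ : P)) =
          1 ⊗ₜ ((v : Fin n → A) i • (⟨e0.mulVec (Pi.single i 1), Pi.single i 1, rfl⟩ : P)) := fun i => by
        rw [tmul_smul, ← algebraMap_smul A[X] ((v : Fin n → A) i)]
        rfl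
      rw [Finset.sum_congr rfl fun i _ => this i, ← tmul_sum]
      congr 1
      refine Subtype.ext ?_
      conv_rhs => rw [← hfix v]
      simp only [AddSubmonoidClass.coe_finsetSum, SetLike.val_smul]
      funext i
      simp [Matrix.mulVec, dotProduct, mul_comm]
    rw [h2, smul_tmul', smul_eq_mul, _root_.mul_one]
  · refine LinearMap.ext fun z => ?_
    show π (V.mulVec (ι₀.liftBaseChange A[X] (H z))) = z
    have h1 : ι₀.liftBaseChange A[X] (H z) = (e0.map C).mulVec (U.mulVec (co z)) := by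
      simp only [H, LinearMap.coe_sum, Finset.sum_apply, LinearMap.smulRight_apply, LinearMap.comp_apply,
        LinearMap.proj_apply, Matrix.mulVecLin_apply, map_sum, map_smul, hι, one_smul]
      funext j
      simp only [Matrix.mulVec, dotProduct, Finset.sum_apply, Pi.smul_apply, smul_eq_mul, Function.comp_apply,
        Matrix.map_apply]
      refine Finset.sum_congr rfl fun i _ => ?_
      rw [mul_comm]
      congr 1
      simp [e0, Pi.single_apply, apply_ite C]
    rw [h1, ← show e.map (Polynomial.eval 0) = e0 from rfl, ← hUV, Matrix.mulVec_mulVec, Matrix.mulVec_mulVec,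
      show V * (U * V) * U = (V * U) * (V * U) by simp only [Matrix.mul_assoc], hVU, he, hπe, hπco]

theorem gluing_of_extended {M P : Type u} [AddCommGroup M] [Module A[X] M] [AddCommGroup P] [Module A P]
    (f : M ≃ₗ[A[X]] A[X] ⊗[A] P) :
    ∃ g : (A[T;T⁻¹] ⊗[A[X]] M) →ₛₗ[(LaurentPolynomial.invert (R := A)).toRingEquiv.toRingHom]
      (A[T;T⁻¹] ⊗[A[X]] M), Function.Bijective g := by
  haveI : IsScalarTower A A[X] A[T;T⁻¹] := IsScalarTower.of_algebraMap_eq fun a => by
    rw [LaurentPolynomial.algebraMap_eq_toLaurent, Polynomial.algebraMap_eq, Polynomial.toLaurent_C,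
      LaurentPolynomial.C_eq_algebraMap]
  let F : A[T;T⁻¹] ⊗[A[X]] M ≃ₗ[A[T;T⁻¹]] A[T;T⁻¹] ⊗[A] P :=
    (f.baseChange A[X] A[T;T⁻¹]).trans
      (TensorProduct.AlgebraTensorModule.cancelBaseChange A A[X] A[T;T⁻¹] A[T;T⁻¹] P)
  let S : A[T;T⁻¹] ⊗[A] P ≃ₗ[A] A[T;T⁻¹] ⊗[A] P :=
    TensorProduct.congr (LaurentPolynomial.invert (R := A)).toLinearEquiv (LinearEquiv.refl A P)
  have hS : ∀ (a : A[T;T⁻¹]) z, S (a • z) = LaurentPolynomial.invert a • S z := fun a z => by
    induction z using TensorProduct.induction_on with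
    | zero => simp
    | tmul b p => simp [S, smul_tmul']
    | add z₁ z₂ h₁ h₂ => simp only [smul_add, map_add, h₁, h₂]
  refine ⟨{ toFun := fun z => F.symm (S (F z)), map_add' := fun z w => by simp, map_smul' := fun a z => ?_ }, ?_⟩
  · rw [LinearEquiv.map_smul F, hS, LinearEquiv.map_smul F.symm]
    rfl
  · exact F.symm.bijective.comp (S.bijective.comp F.bijective)

end Groth.Agent.HorrocksLib
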