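import Groth.Agent.HorrocksLib.Step

/-!
Horrocks' theorem over a local ring, by induction on the residual rank.
-/

set_option autoImplicit false

universe u

namespace Groth.Agent.HorrocksLib

open Polynomial
open scoped LaurentPolynomial

variable {A : Type u} [CommRing A]

theorem quotient_span_singleton {R M : Type u} [CommRing R] [AddCommGroup M] [Module R M] [Module.Finite R M]
    [Module.Projective R M] {s : M} {φ : M →ₗ[R] R} (h : φ s = 1) :
    Module.Projective R (M ⧸ Submodule.span R {s}) ∧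
      (Module.Free R (M ⧸ Submodule.span R {s}) → Module.Free R M) := by
  let S := Submodule.span R {s}
  let sec : (M ⧸ S) →ₗ[R] M := S.liftQ (LinearMap.id - φ.smulRight s)
    ((Submodule.span_singleton_le_iff_mem _ _).2 (by simp [h]))
  have hsec : S.mkQ.comp sec = LinearMap.id := by
    refine Submodule.linearMap_qext _ (LinearMap.ext fun x => ?_)
    show S.mkQ (x - φ x • s) = S.mkQ x
    rw [map_sub, map_smul, show S.mkQ s = 0 from
      (Submodule.Quotient.mk_eq_zero S).2 (Submodule.mem_span_singleton_self s), smul_zero, sub_zero]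
  refine ⟨Module.Projective.of_split sec S.mkQ hsec, fun hfree => ?_⟩
  let F : M →ₗ[R] R × (M ⧸ S) := φ.prod S.mkQ
  have hF : Function.Bijective F := by
    refine ⟨(injective_iff_map_eq_zero _).2 fun x hx => ?_, fun y => ?_⟩
    · obtain ⟨h1, h2⟩ := Prod.ext_iff.1 hx
      obtain ⟨c, hc⟩ := Submodule.mem_span_singleton.1 ((Submodule.Quotient.mk_eq_zero S).1 h2)
      have hφx : φ x = 0 := h1
      rw [← hc, map_smul, h, smul_eq_mul, _root_.mul_one] at hφx
      rw [← hc, hφx, zero_smul]
    · obtain ⟨c, q⟩ := y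
      obtain ⟨x, rfl⟩ := S.mkQ_surjective q
      refine ⟨x + (c - φ x) • s, Prod.ext ?_ ?_⟩
      · show φ (x + (c - φ x) • s) = c
        rw [map_add, map_smul, h, smul_eq_mul, _root_.mul_one, add_sub_cancel]
      · show S.mkQ (x + (c - φ x) • s) = S.mkQ x
        rw [map_add, map_smul, show S.mkQ s = 0 from
          (Submodule.Quotient.mk_eq_zero S).2 (Submodule.mem_span_singleton_self s), smul_zero, add_zero]
  exact Module.Free.of_equiv (LinearEquiv.ofBijective F hF).symm

variable [IsLocalRing A]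

theorem eq_zero_of_rank_zero {L M N : Type u} [AddCommGroup L] [Module A[T;T⁻¹] L] [Module A L]
    [IsScalarTower A A[T;T⁻¹] L] [AddCommGroup M] [Module A[X] M] [Module.Finite A[X] M]
    [Module.Projective A[X] M] [AddCommGroup N] [Module A[X] N] [Module.Finite A[X] N] [Module.Projective A[X] N]
    {iM : M →ₛₗ[chart0 (A := A)] L} {iN : N →ₛₗ[chart1 (A := A)] L}
    (hM : IsChartMap chart0 iM) (hN : IsChartMap chart1 iN)
    (h : ∀ x : M, x ∈ maxExt A • (⊤ : Submodule A[X] M)) : Subsingleton M := by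
  have hN0 : (⊤ : Submodule A[X] N) ≤ maxExt A • (⊤ : Submodule A[X] N) := fun n _ => by
    refine mem_smul_top_of_forall (apply_mem_of_chart_mem_mTop chart1_C_smul hN ?_)
    obtain ⟨d, m, hm⟩ := hM.loc (iN n)
    have h1 := smul_mem_mTop ((chart1 X : A[T;T⁻¹]) ^ d) (chart_mem_mTop chart0 chart0_C_smul iM (h m))
    rwa [← hm, chart_cancel'] at h1
  obtain ⟨g, hg, hkill⟩ := Submodule.exists_sub_one_mem_and_smul_eq_zero_of_fg_of_le_smul (maxExt A) ⊤
    Module.Finite.fg_top hN0
  refine subsingleton_of_killed (g.reflect g.natDegree) g.natDegree (natDegree_reflect_le' _ _ le_rfl) ?_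
    (fun m => hM.inj ?_) (fun x _ => h x)
  · rw [coeff_reflect, revAt_le le_rfl, Nat.sub_self]
    by_contra hu
    have h1 : g.coeff 0 ∈ IsLocalRing.maximalIdeal A := hu
    have h2 := Ideal.mem_map_C_iff.1 hg 0
    rw [coeff_sub, coeff_one_zero] at h2
    exact (IsLocalRing.maximalIdeal.isMaximal A).ne_top ((Ideal.eq_top_iff_one _).2 (by
      simpa using sub_mem h1 h2))
  · obtain ⟨d, n, hn⟩ := hN.loc (iM m)
    rw [LinearMap.map_smulₛₗ, chart0_reflect g _ le_rfl, map_zero, ← chart_cancel (A := A) d (iM m), hn, mul_smul,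
      smul_comm (chart1 g), ← LinearMap.map_smulₛₗ, hkill n trivial, map_zero, smul_zero, smul_zero]

/-- **Horrocks' theorem.** -/
theorem free_of_charts : ∀ (r : ℕ) (L M N : Type u) [AddCommGroup L] [Module A[T;T⁻¹] L] [Module A L]
    [IsScalarTower A A[T;T⁻¹] L] [AddCommGroup M] [Module A[X] M] [Module.Finite A[X] M]
    [Module.Projective A[X] M] [AddCommGroup N] [Module A[X] N] [Module.Finite A[X] N] [Module.Projective A[X] N]
    (iM : M →ₛₗ[chart0 (A := A)] L) (iN : N →ₛₗ[chart1 (A := A)] L),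
    IsChartMap chart0 iM → IsChartMap chart1 iN →
    (∃ v : Fin r → M, ∀ x, ∃ c : Fin r → A[X], x - ∑ i, c i • v i ∈ maxExt A • (⊤ : Submodule A[X] M)) →
    Module.Free A[X] M := by
  intro r
  induction r using Nat.strong_induction_on with
  | _ r IH =>
  intro L M N _ _ _ _ _ _ _ _ _ _ _ _ iM iN hM hN ⟨v, hv⟩
  obtain ⟨r₀, hr₀, m, φ, hδ, hspan⟩ := exists_residual_basis v hv
  cases r₀ with
  | zero =>
    haveI := eq_zero_of_rank_zero hM hN fun x => by simpa using hspan x
    exact Module.Free.of_subsingleton A[X] M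
  | succ r₀ =>
    obtain ⟨iN', s, s', hN', hs, hv0, hv1, c, hc⟩ := exists_section_step hM hN m φ hδ hspan
    obtain ⟨φs, hφs⟩ := mem_values.1 (hv0.ge (Submodule.mem_top (x := (1 : A[X]))))
    obtain ⟨ψs, hψs⟩ := mem_values.1 (hv1.ge (Submodule.mem_top (x := (1 : A[X]))))
    obtain ⟨hproj, hfree⟩ := quotient_span_singleton hφs
    obtain ⟨hproj', -⟩ := quotient_span_singleton hψs
    haveI := hproj
    haveI := hproj'
    let x := iM s
    have hle : Submodule.span A[X] {s} ≤ (Submodule.span A[T;T⁻¹] {x}).comap iM :=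
      (Submodule.span_singleton_le_iff_mem _ _).2 (Submodule.mem_span_singleton_self _)
    have hle' : Submodule.span A[X] {s'} ≤ (Submodule.span A[T;T⁻¹] {x}).comap iN' :=
      (Submodule.span_singleton_le_iff_mem _ _).2 (by
        rw [Submodule.mem_comap, ← hs]; exact Submodule.mem_span_singleton_self _)
    have hu0 : IsUnit (chart0 X : A[T;T⁻¹]) := IsUnit.of_mul_eq_one _ chart0_X_mul_chart1_X
    have hu1 : IsUnit (chart1 X : A[T;T⁻¹]) :=
      IsUnit.of_mul_eq_one _ ((mul_comm _ _).trans chart0_X_mul_chart1_X)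
    refine hfree (IH r₀ (by omega) _ _ _ _ _
      (hM.quotient chart0_injective exists_pow_mul_chart0 hu0 (x := x) rfl hφs hle)
      (hN'.quotient chart1_injective exists_pow_mul_chart1 hu1 (x := x) hs.symm hψs hle')
      ⟨fun i => Submodule.Quotient.mk (m i.succ), fun y => ?_⟩)
    obtain ⟨z, rfl⟩ := Submodule.Quotient.mk_surjective _ y
    refine ⟨fun i => φ i.succ z - φ 0 z * c i, ?_⟩
    let q := (Submodule.span A[X] {s}).mkQ
    have hq : ∀ w ∈ maxExt A • (⊤ : Submodule A[X] M), q w ∈ maxExt A • (⊤ : Submodule A[X] _) := fun w hw => by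
      have h1 := Submodule.mem_map_of_mem (f := q) hw
      rw [Submodule.map_smul''] at h1
      exact Submodule.smul_mono le_rfl le_top h1
    have h2 := add_mem (hq _ (hspan z)) (Submodule.smul_mem _ (φ 0 z) (hq _ hc))
    have hqs : q s = 0 := (Submodule.Quotient.mk_eq_zero _).2 (Submodule.mem_span_singleton_self s)
    convert h2 using 1
    show q z - ∑ i, (φ i.succ z - φ 0 z * c i) • q (m i.succ) = _
    rw [Fin.sum_univ_succ]
    simp only [map_sub, map_add, map_sum, map_smul, hqs, zero_sub, sub_smul, mul_smul, Finset.sum_sub_distrib,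
      ← Finset.smul_sum, smul_sub, smul_neg]
    abel

/-- Matrix form of Horrocks' theorem. -/
theorem exists_trivialization {n m : Type} [Fintype n] [Fintype m] (e : Matrix n n A[X]) (e' : Matrix m m A[X])
    (he : e * e = e) (he' : e' * e' = e') (c : Matrix n m A[T;T⁻¹]) (d : Matrix m n A[T;T⁻¹])
    (hcd : c * d = e.map chart0) (hdc : d * c = e'.map chart1) :
    ∃ (r : ℕ) (P : Matrix n (Fin r) A[X]) (Q : Matrix (Fin r) n A[X]), P * Q = e ∧ Q * P = 1 := by
  classical
  let E := e.mulVecLin
  let E' := e'.mulVecLin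
  let M := LinearMap.range E
  let N := LinearMap.range E'
  have hfix : ∀ v : M, e.mulVec (v : n → A[X]) = v := fun ⟨v, w, hw⟩ => by
    subst hw
    show e.mulVec (e.mulVec w) = e.mulVec w
    rw [Matrix.mulVec_mulVec, he]
  have hfix' : ∀ v : N, e'.mulVec (v : m → A[X]) = v := fun ⟨v, w, hw⟩ => by
    subst hw
    show e'.mulVec (e'.mulVec w) = e'.mulVec w
    rw [Matrix.mulVec_mulVec, he']
  haveI : Module.Projective A[X] M := Module.Projective.of_split M.subtype E.rangeRestrict
    (LinearMap.ext fun v => Subtype.ext (hfix v))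
  haveI : Module.Projective A[X] N := Module.Projective.of_split N.subtype E'.rangeRestrict
    (LinearMap.ext fun v => Subtype.ext (hfix' v))
  let L := LinearMap.range (e.map chart0).mulVecLin
  let iM : M →ₛₗ[chart0 (A := A)] L :=
    { toFun := fun v => ⟨chart0 ∘ (v : n → A[X]), chart0 ∘ (v : n → A[X]), funext fun i => by
        have h := congrArg chart0 (congrFun (hfix v) i)
        rw [RingHom.map_mulVec] at h
        exact h⟩
      map_add' := fun u v => Subtype.ext (funext fun i => map_add chart0 _ _)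
      map_smul' := fun a v => Subtype.ext (funext fun i => map_mul chart0 _ _) }
  have hcL : ∀ w : m → A[X], c.mulVec (chart1 ∘ e'.mulVec w) ∈ L := fun w => ⟨c.mulVec (chart1 ∘ w), by
    show (e.map chart0).mulVec (c.mulVec (chart1 ∘ w)) = c.mulVec (chart1 ∘ e'.mulVec w)
    rw [show (chart1 ∘ e'.mulVec w) = (e'.map chart1).mulVec (chart1 ∘ w) from
      funext fun i => RingHom.map_mulVec chart1 e' w i, ← hcd, ← hdc, Matrix.mulVec_mulVec, Matrix.mulVec_mulVec,
      Matrix.mul_assoc]⟩
  let iN : N →ₛₗ[chart1 (A := A)] L :=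
    { toFun := fun v => ⟨c.mulVec (chart1 ∘ (v : m → A[X])), hfix' v ▸ hcL v⟩
      map_add' := fun u v => Subtype.ext (show c.mulVec (chart1 ∘ ((u + v : N) : m → A[X])) =
          c.mulVec (chart1 ∘ (u : m → A[X])) + c.mulVec (chart1 ∘ (v : m → A[X])) by
        rw [show (chart1 ∘ ((u + v : N) : m → A[X])) = chart1 ∘ (u : m → A[X]) + chart1 ∘ (v : m → A[X]) from
          funext fun i => map_add chart1 _ _, Matrix.mulVec_add])
      map_smul' := fun a v => Subtype.ext (show c.mulVec (chart1 ∘ ((a • v : N) : m → A[X])) =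
          chart1 a • c.mulVec (chart1 ∘ (v : m → A[X])) by
        rw [show (chart1 ∘ ((a • v : N) : m → A[X])) = chart1 a • (chart1 ∘ (v : m → A[X])) from
          funext fun i => map_mul chart1 _ _, Matrix.mulVec_smul]) }
  have hLfix : ∀ x : L, (e.map chart0).mulVec (x : n → A[T;T⁻¹]) = x := fun ⟨x, w, hw⟩ => by
    subst hw
    show (e.map chart0).mulVec ((e.map chart0).mulVec w) = (e.map chart0).mulVec w
    rw [Matrix.mulVec_mulVec, ← Matrix.map_mul, he]
  have hclear : ∀ {ι : Type} [Fintype ι] (ρ : A[X] →+* A[T;T⁻¹]),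
      (∀ y : A[T;T⁻¹], ∃ (k : ℕ) (f : A[X]), ρ X ^ k * y = ρ f) →
      ∀ v : ι → A[T;T⁻¹], ∃ (k : ℕ) (f : ι → A[X]), ∀ i, ρ X ^ k * v i = ρ (f i) := by
    intro ι _ ρ hρ v
    choose k f hf using fun i => hρ (v i)
    refine ⟨∑ i, k i, fun i => X ^ (∑ i, k i - k i) * f i, fun i => ?_⟩
    rw [map_mul, map_pow, ← hf, ← mul_assoc, ← pow_add,
      Nat.sub_add_cancel (Finset.single_le_sum (f := k) (fun _ _ => Nat.zero_le _) (Finset.mem_univ i))]
  have hM : IsChartMap chart0 iM := by
    refine ⟨fun u v h => Subtype.ext (funext fun i => chart0_injective (congrFun (congrArg Subtype.val h) i)),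
      fun x => ?_⟩
    obtain ⟨k, f, hf⟩ := hclear chart0 exists_pow_mul_chart0 (x : n → A[T;T⁻¹])
    refine ⟨k, ⟨e.mulVec f, f, rfl⟩, Subtype.ext (funext fun i => ?_)⟩
    show chart0 X ^ k * (x : n → A[T;T⁻¹]) i = chart0 (e.mulVec f i)
    rw [RingHom.map_mulVec]
    conv_lhs => rw [← hLfix x]
    rw [show (chart0 (A := A) ∘ f) = chart0 (A := A) X ^ k • (x : n → A[T;T⁻¹]) from funext fun i => (hf i).symm, Matrix.mulVec_smul]
    rfl
  have hN : IsChartMap chart1 iN := by
    refine ⟨fun u v h => Subtype.ext (funext fun i => chart1_injective ?_), fun x => ?_⟩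
    · have h1 := congrArg d.mulVec (congrArg Subtype.val h)
      have h2 : ∀ w : N, d.mulVec (c.mulVec (chart1 ∘ (w : m → A[X]))) = chart1 ∘ (w : m → A[X]) := fun w => by
        rw [Matrix.mulVec_mulVec, hdc]
        funext j
        rw [← RingHom.map_mulVec, hfix']
        rfl
      change d.mulVec (c.mulVec _) = d.mulVec (c.mulVec _) at h1
      rw [h2, h2] at h1
      exact congrFun h1 i
    · obtain ⟨k, f, hf⟩ := hclear chart1 exists_pow_mul_chart1 (d.mulVec (x : n → A[T;T⁻¹]))
      refine ⟨k, ⟨e'.mulVec f, f, rfl⟩, Subtype.ext ?_⟩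
      show chart1 X ^ k • (x : n → A[T;T⁻¹]) = c.mulVec (chart1 ∘ e'.mulVec f)
      rw [show (chart1 ∘ e'.mulVec f) = (e'.map chart1).mulVec (chart1 ∘ f) from
        funext fun i => RingHom.map_mulVec chart1 e' f i,
        show (chart1 (A := A) ∘ f) = chart1 (A := A) X ^ k • d.mulVec (x : n → A[T;T⁻¹]) from funext fun i => (hf i).symm,
        ← hdc, Matrix.mulVec_smul, Matrix.mulVec_smul, Matrix.mulVec_mulVec, Matrix.mulVec_mulVec]
      congr 1
      conv_lhs => rw [← hLfix x]
      rw [← hcd]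
      simp only [Matrix.mulVec_mulVec, Matrix.mul_assoc]
      rw [show c * (d * (c * d)) = (c * d) * (c * d) by simp only [Matrix.mul_assoc], hcd, ← Matrix.map_mul, he]
  obtain ⟨k, v, φ, hv⟩ := exists_dualBasis A[X] M
  haveI : Module.Free A[X] M := free_of_charts k L M N iM iN hM hN
    ⟨v, fun x => ⟨fun i => φ i x, by rw [hv, sub_self]; exact zero_mem _⟩⟩
  let b := Module.finBasis A[X] M
  let P : Matrix n (Fin (Module.finrank A[X] M)) A[X] := Matrix.of fun i l => (b l : n → A[X]) i
  let Q : Matrix (Fin (Module.finrank A[X] M)) n A[X] :=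
    Matrix.of fun l j => b.repr (E.rangeRestrict (Pi.single j 1)) l
  refine ⟨_, P, Q, ?_, ?_⟩
  · ext1 i j
    have h := congrArg (fun w : M => (w : n → A[X]) i) (b.sum_repr (E.rangeRestrict (Pi.single j 1)))
    simp only [AddSubmonoidClass.coe_finsetSum, Finset.sum_apply, SetLike.val_smul, Pi.smul_apply, smul_eq_mul] at h
    rw [Matrix.mul_apply]
    calc ∑ l, P i l * Q l j = _ := Finset.sum_congr rfl fun l _ => mul_comm _ _
      _ = (E.rangeRestrict (Pi.single j 1) : n → A[X]) i := h
      _ = e i j := by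
        show e.mulVec (Pi.single j 1) i = e i j
        rw [Matrix.mulVec_single_one]
        rfl
  · ext1 l l'
    have h : b l' = ∑ j, (b l' : n → A[X]) j • E.rangeRestrict (Pi.single j 1) := by
      refine Subtype.ext ?_
      conv_lhs => rw [← hfix (b l')]
      simp only [AddSubmonoidClass.coe_finsetSum, SetLike.val_smul]
      funext i
      simp [E, Matrix.mulVec, dotProduct, mul_comm]
    have h1 := congrArg (fun w : M => b.repr w l) h
    simp only [map_sum, map_smul, Finsupp.coe_finsetSum, Finset.sum_apply, Finsupp.smul_apply, smul_eq_mul,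
      Module.Basis.repr_self] at h1
    rw [Matrix.mul_apply, Matrix.one_apply]
    rw [Finsupp.single_apply] at h1
    simp only [eq_comm (a := l)]
    rw [h1]
    exact Finset.sum_congr rfl fun j _ => mul_comm _ _

end Groth.Agent.HorrocksLib
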