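import Groth.Agent.HorrocksLib.Residual

/-!
Horrocks' theorem over a local ring: a bundle on the projective line is free on the affine line.
-/

set_option autoImplicit false

universe u

namespace Groth.Agent.HorrocksLib

open Polynomial
open scoped LaurentPolynomial

variable {A : Type u} [CommRing A]

/-- A module over a chart sitting inside a module over the overlap as a localization. -/
structure IsChartMap {L M : Type u} [AddCommGroup L] [Module A[T;T⁻¹] L] [AddCommGroup M] [Module A[X] M]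
    (ρ : A[X] →+* A[T;T⁻¹]) (i : M →ₛₗ[ρ] L) : Prop where
  inj : Function.Injective i
  loc : ∀ x : L, ∃ (d : ℕ) (m : M), ρ X ^ d • x = i m

theorem IsChartMap.quotient {L M : Type u} [AddCommGroup L] [Module A[T;T⁻¹] L] [AddCommGroup M]
    [Module A[X] M] {ρ : A[X] →+* A[T;T⁻¹]} (hρ : Function.Injective ρ) {i : M →ₛₗ[ρ] L}
    (hi : IsChartMap ρ i) (hu : ∀ c : A[T;T⁻¹], ∃ (d : ℕ) (f : A[X]), ρ X ^ d * c = ρ f) (hX : IsUnit (ρ X))
    {s : M} {x : L} (hs : i s = x) {φ : M →ₗ[A[X]] A[X]} (hφ : φ s = 1)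
    (hle : Submodule.span A[X] {s} ≤ (Submodule.span A[T;T⁻¹] {x}).comap i) :
    IsChartMap ρ (Submodule.mapQ (Submodule.span A[X] {s}) (Submodule.span A[T;T⁻¹] {x}) i hle) := by
  refine ⟨(injective_iff_map_eq_zero _).2 fun y hy => ?_, fun y => ?_⟩
  · obtain ⟨m, rfl⟩ := Submodule.Quotient.mk_surjective _ y
    rw [Submodule.mapQ_apply, Submodule.Quotient.mk_eq_zero, Submodule.mem_span_singleton] at hy
    obtain ⟨c, hc⟩ := hy
    obtain ⟨d, f, hf⟩ := hu c
    have h1 : (X : A[X]) ^ d • m = f • s := hi.inj (by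
      rw [LinearMap.map_smulₛₗ, LinearMap.map_smulₛₗ, hs, map_pow, ← hc, smul_smul, hf])
    have h2 := congrArg φ h1
    rw [map_smul, map_smul, hφ, smul_eq_mul, smul_eq_mul, _root_.mul_one] at h2
    have hc' : c = ρ (φ m) := by
      refine (hX.pow d).mul_left_cancel ?_
      rw [hf, ← h2, map_mul, map_pow]
    rw [Submodule.Quotient.mk_eq_zero, Submodule.mem_span_singleton]
    exact ⟨φ m, hi.inj (by rw [LinearMap.map_smulₛₗ, hs, ← hc', hc])⟩
  · obtain ⟨z, rfl⟩ := Submodule.Quotient.mk_surjective _ y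
    obtain ⟨d, m, hm⟩ := hi.loc z
    exact ⟨d, Submodule.Quotient.mk m, by rw [Submodule.mapQ_apply, ← hm, Submodule.Quotient.mk_smul]⟩

theorem exists_pow_mul_chart0 (c : A[T;T⁻¹]) : ∃ (d : ℕ) (f : A[X]), chart0 X ^ d * c = chart0 f := by
  obtain ⟨d, f, hf⟩ := LaurentPolynomial.exists_T_pow c
  refine ⟨d, f, ?_⟩
  rw [← map_pow, Polynomial.toLaurent_X_pow, hf, mul_comm]

theorem exists_pow_mul_chart1 (c : A[T;T⁻¹]) : ∃ (d : ℕ) (f : A[X]), chart1 X ^ d * c = chart1 f := by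
  obtain ⟨d, f, hf⟩ := exists_pow_mul_chart0 (LaurentPolynomial.invert c)
  refine ⟨d, f, ?_⟩
  rw [chart1_apply f, ← hf, map_mul, map_pow]
  congr 1
  exact ((LaurentPolynomial.invert (R := A)).left_inv c).symm

theorem poly0 (g : A[X]) :
    ∃ E, ∀ E', E ≤ E' → (chart0 X : A[T;T⁻¹]) ^ E' * chart1 g ∈ (chart0 (A := A)).range :=
  ⟨g.natDegree, fun E' h => ⟨g.reflect E', chart0_reflect g E' h⟩⟩

theorem poly1 (g : A[X]) :
    ∃ E, ∀ E', E ≤ E' → (chart1 X : A[T;T⁻¹]) ^ E' * chart0 g ∈ (chart1 (A := A)).range :=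
  ⟨g.natDegree, fun E' h => ⟨g.reflect E', chart1_reflect g E' h⟩⟩

variable [IsLocalRing A]
variable {L M N : Type u} [AddCommGroup L] [Module A[T;T⁻¹] L] [AddCommGroup M] [Module A[X] M]
  [AddCommGroup N] [Module A[X] N]

/-- Unimodularity of a glued section. -/
theorem values_eq_top [Module.Finite A[X] M] [Module.Projective A[X] M] [Module.Finite A[X] N]
    [Module.Projective A[X] N] {iM : M →ₛₗ[chart0 (A := A)] L} {iN : N →ₛₗ[chart1 (A := A)] L}
    (hM : IsChartMap chart0 iM) (hN : IsChartMap chart1 iN) {s : M} {s' : N} (hs : iM s = iN s')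
    {φ : M →ₗ[A[X]] A[X]} (hφ : φ s - 1 ∈ maxExt A) {ψ : N →ₗ[A[X]] A[X]} (hψ : IsUnit ((ψ s').coeff 0)) :
    values A[X] s = ⊤ ∧ values A[X] s' = ⊤ := by
  obtain ⟨E₀, hE⟩ := transfer chart0 chart1 X chart0_X_mul_chart1_X chart1_injective poly0 poly1 iM iN
    hN.inj hN.loc hs ⟨ψ, rfl⟩
  obtain ⟨q, hq, hqE⟩ := hE (E₀ + (ψ s').natDegree) (Nat.le_add_right _ _)
  change _ * chart1 (ψ s') = chart0 q at hqE
  rw [← chart0_reflect _ _ (Nat.le_add_left _ _)] at hqE
  have hq' := chart0_injective hqE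
  have h1 : values A[X] s = ⊤ := by
    refine eq_top_of_monic_mem _ q (E₀ + (ψ s').natDegree) ?_ ?_ hq _ ⟨φ, rfl⟩ hφ
    · rw [← hq']; exact natDegree_reflect_le' _ _ (Nat.le_add_left _ _)
    · rw [← hq', coeff_reflect, revAt_le le_rfl, Nat.sub_self]; exact hψ
  refine ⟨h1, ?_⟩
  obtain ⟨E₁, hE₁⟩ := transfer chart1 chart0 X ((mul_comm _ _).trans chart0_X_mul_chart1_X) chart0_injective
    poly1 poly0 iN iM hM.inj hM.loc hs.symm (h1.ge (Submodule.mem_top (x := (1 : A[X]))))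
  obtain ⟨q₁, hq₁, hqE₁⟩ := hE₁ E₁ le_rfl
  rw [map_one, _root_.mul_one, ← map_pow] at hqE₁
  exact eq_top_of_X_pow_mem _ (ψ s') ⟨ψ, rfl⟩ hψ E₁ ((chart1_injective hqE₁) ▸ hq₁)

variable [Module A L] [IsScalarTower A A[T;T⁻¹] L]

omit [IsLocalRing A] in
theorem chart0_C_smul (a : A) (x : L) : (chart0 (C a) : A[T;T⁻¹]) • x = a • x := by
  rw [show (chart0 (C a) : A[T;T⁻¹]) = algebraMap A A[T;T⁻¹] a from
    (Polynomial.toLaurent_C a).trans (LaurentPolynomial.C_eq_algebraMap a), algebraMap_smul]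

omit [IsLocalRing A] in
theorem chart1_C_smul (a : A) (x : L) : (chart1 (C a) : A[T;T⁻¹]) • x = a • x := by
  rw [chart1_C, chart0_C_smul]

/-- The sum of the images of the two charts. -/
noncomputable def chartSum (iM : M →ₛₗ[chart0 (A := A)] L) (iN : N →ₛₗ[chart1 (A := A)] L) : Submodule A L where
  carrier := {x | ∃ m n, iM m + iN n = x}
  zero_mem' := ⟨0, 0, by simp⟩
  add_mem' := by
    rintro _ _ ⟨m, n, rfl⟩ ⟨m', n', rfl⟩
    exact ⟨m + m', n + n', by rw [map_add, map_add]; abel⟩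
  smul_mem' := by
    rintro a _ ⟨m, n, rfl⟩
    exact ⟨(C a : A[X]) • m, (C a : A[X]) • n, by
      rw [LinearMap.map_smulₛₗ, LinearMap.map_smulₛₗ, chart0_C_smul, chart1_C_smul, smul_add]⟩

/-- The reduction to zero in the overlap. -/
noncomputable abbrev mTop (A L : Type u) [CommRing A] [IsLocalRing A] [AddCommGroup L] [Module A L] :
    Submodule A L := IsLocalRing.maximalIdeal A • ⊤

theorem smul_mem_mTop (c : A[T;T⁻¹]) {x : L} (hx : x ∈ mTop A L) : c • x ∈ mTop A L := by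
  refine Submodule.smul_induction_on hx (fun a ha y _ => ?_) fun y z hy hz => ?_
  · rw [smul_comm]; exact Submodule.smul_mem_smul ha trivial
  · rw [smul_add]; exact add_mem hy hz

theorem chart_mem_mTop (ρ : A[X] →+* A[T;T⁻¹]) (hρ : ∀ (a : A) (x : L), ρ (C a) • x = a • x)
    (i : M →ₛₗ[ρ] L) {m : M} (hm : m ∈ maxExt A • (⊤ : Submodule A[X] M)) : i m ∈ mTop A L := by
  refine Submodule.smul_induction_on hm (fun r hr y _ => ?_) fun y z hy hz => ?_
  · rw [r.as_sum_range_C_mul_X_pow, Finset.sum_smul, map_sum]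
    refine sum_mem fun j _ => ?_
    rw [mul_smul, LinearMap.map_smulₛₗ, hρ]
    exact Submodule.smul_mem_smul (Ideal.mem_map_C_iff.1 hr j) trivial
  · rw [map_add]; exact add_mem hy hz

theorem apply_mem_of_chart_mem_mTop {ρ : A[X] →+* A[T;T⁻¹]} (hρ : ∀ (a : A) (x : L), ρ (C a) • x = a • x)
    {i : M →ₛₗ[ρ] L} (hi : IsChartMap ρ i) {m : M} (hm : i m ∈ mTop A L) (φ : M →ₗ[A[X]] A[X]) :
    φ m ∈ maxExt A := by
  obtain ⟨d, m', hm', he⟩ : ∃ (d : ℕ) (m' : M), m' ∈ maxExt A • (⊤ : Submodule A[X] M) ∧ ρ X ^ d • i m = i m' := by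
    refine Submodule.smul_induction_on hm (fun a ha y _ => ?_) fun y z hy hz => ?_
    · obtain ⟨d, w, hw⟩ := hi.loc y
      refine ⟨d, (C a : A[X]) • w, Submodule.smul_mem_smul (Ideal.mem_map_of_mem C ha) trivial, ?_⟩
      rw [← hρ, smul_comm, hw, LinearMap.map_smulₛₗ]
    · obtain ⟨d, w, hw, he⟩ := hy
      obtain ⟨d', w', hw', he'⟩ := hz
      refine ⟨d + d', (X : A[X]) ^ d' • w + (X : A[X]) ^ d • w',
        add_mem (Submodule.smul_mem _ _ hw) (Submodule.smul_mem _ _ hw'), ?_⟩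
      rw [map_add, LinearMap.map_smulₛₗ, LinearMap.map_smulₛₗ, ← he, ← he', smul_add, pow_add, map_pow,
        map_pow, smul_smul, smul_smul, mul_comm (ρ X ^ d') (ρ X ^ d)]
  have h1 : (X : A[X]) ^ d • m = m' := hi.inj (by rw [LinearMap.map_smulₛₗ, map_pow, he])
  have h2 := apply_mem_maxExt hm' φ
  rw [← h1, map_smul, smul_eq_mul, maxExt, Ideal.mem_map_C_iff] at h2
  rw [maxExt, Ideal.mem_map_C_iff]
  intro j
  have h3 := h2 (j + d)
  rwa [coeff_X_pow_mul] at h3

omit [IsLocalRing A] in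
theorem band (iM : M →ₛₗ[chart0 (A := A)] L) (S : Submodule A L) (hW : ∀ m, iM m ∈ S) {m : M}
    (hm : ∀ j : ℕ, (chart1 X : A[T;T⁻¹]) ^ j • iM m ∈ S) (f : A[X]) (j : ℕ) :
    (chart1 X : A[T;T⁻¹]) ^ j • iM (f • m) ∈ S := by
  induction f using Polynomial.induction_on' with
  | add p q hp hq => rw [add_smul, map_add, smul_add]; exact add_mem hp hq
  | monomial k a =>
    rw [← C_mul_X_pow_eq_monomial, mul_smul, LinearMap.map_smulₛₗ, chart0_C_smul, smul_comm]
    refine Submodule.smul_mem _ _ ?_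
    have hp : ∀ i : ℕ, (chart1 X : A[T;T⁻¹]) ^ i * chart0 X ^ i = 1 := fun i => by
      rw [← mul_pow, mul_comm, chart0_X_mul_chart1_X, one_pow]
    rcases le_total k j with h | h
    · rw [LinearMap.map_smulₛₗ, map_pow, smul_smul, show j = (j - k) + k by omega, pow_add, mul_assoc, hp,
        _root_.mul_one]
      exact hm _
    · have : (chart1 X : A[T;T⁻¹]) ^ j • iM ((X : A[X]) ^ k • m) = iM ((X : A[X]) ^ (k - j) • m) := by
        rw [LinearMap.map_smulₛₗ, LinearMap.map_smulₛₗ, map_pow, map_pow, smul_smul]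
        congr 1
        rw [show k = j + (k - j) by omega, pow_add, ← mul_assoc, hp, _root_.one_mul, Nat.add_sub_cancel_left]
      rw [this]
      exact hW _

omit [IsLocalRing A] in
theorem eq_top_of_band [Module.Finite A[X] M] [Module.Projective A[X] M]
    {iM : M →ₛₗ[chart0 (A := A)] L} (hM : IsChartMap chart0 iM) (S : Submodule A L) (hW : ∀ m, iM m ∈ S)
    (h : ∀ (m : M) (j : ℕ), (chart1 X : A[T;T⁻¹]) ^ j • iM m ∈ S) : S = ⊤ := by
  refine eq_top_iff.2 fun x _ => ?_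
  obtain ⟨d, m, hm⟩ := hM.loc x
  have h1 := h m d
  rwa [← hm, smul_smul, ← mul_pow, mul_comm, chart0_X_mul_chart1_X, one_pow, one_smul] at h1

/-- Nakayama for the cokernel of the gluing. -/
theorem chartSum_eq_top [Module.Finite A[X] M] [Module.Projective A[X] M]
    {iM : M →ₛₗ[chart0 (A := A)] L} (hM : IsChartMap chart0 iM)
    {iN : N →ₛₗ[chart1 (A := A)] L} (hN : IsChartMap chart1 iN)
    (h : chartSum iM iN ⊔ mTop A L = ⊤) : chartSum iM iN = ⊤ := by
  classical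
  obtain ⟨k, m, φ, hm⟩ := exists_dualBasis A[X] M
  choose d n hn using fun i => hN.loc (iM (m i))
  let W := chartSum iM iN
  have hWM : ∀ x, iM x ∈ W := fun x => ⟨x, 0, by simp⟩
  let G : Set L := ⋃ i, (fun j : ℕ => (chart1 X : A[T;T⁻¹]) ^ j • iM (m i)) '' Set.Iio (d i)
  have hG : G.Finite := Set.finite_iUnion fun i => (Set.finite_Iio (d i)).image _
  let S := W ⊔ Submodule.span A G
  have hS : S = ⊤ := by
    refine eq_top_of_band hM S (fun x => Submodule.mem_sup_left (hWM x)) fun x j => ?_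
    rw [← hm x, map_sum, Finset.smul_sum]
    refine sum_mem fun i _ => band iM S (fun y => Submodule.mem_sup_left (hWM y)) (fun j' => ?_) _ _
    rcases lt_or_ge j' (d i) with hj | hj
    · exact Submodule.mem_sup_right (Submodule.subset_span (Set.mem_iUnion.2 ⟨i, j', hj, rfl⟩))
    · refine Submodule.mem_sup_left ⟨0, (X : A[X]) ^ (j' - d i) • n i, ?_⟩
      rw [map_zero, zero_add, LinearMap.map_smulₛₗ, map_pow, ← hn, smul_smul, ← pow_add, Nat.sub_add_cancel hj]
  haveI : Module.Finite A (L ⧸ W) := by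
    refine ⟨?_⟩
    have h1 : (Submodule.span A G).map W.mkQ = ⊤ := by
      refine eq_top_iff.2 fun y _ => ?_
      obtain ⟨x, rfl⟩ := Submodule.mkQ_surjective _ y
      obtain ⟨w, hw, g, hg, rfl⟩ := Submodule.mem_sup.1 (hS.ge (Submodule.mem_top (x := x)))
      exact ⟨g, hg, by rw [map_add, show W.mkQ w = 0 from (Submodule.Quotient.mk_eq_zero W).2 hw, zero_add]⟩
    rw [← h1]
    exact (Submodule.fg_span hG).map _
  have h2 : (⊤ : Submodule A (L ⧸ W)) ≤ IsLocalRing.maximalIdeal A • ⊤ := fun y _ => by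
    obtain ⟨x, rfl⟩ := Submodule.mkQ_surjective _ y
    obtain ⟨w, hw, g, hg, rfl⟩ := Submodule.mem_sup.1 (h.ge (Submodule.mem_top (x := x)))
    rw [map_add, show W.mkQ w = 0 from (Submodule.Quotient.mk_eq_zero W).2 hw, zero_add]
    have h3 := Submodule.mem_map_of_mem (f := W.mkQ) hg
    rw [Submodule.map_smul''] at h3
    exact Submodule.smul_mono le_rfl le_top h3
  have h3 := Submodule.eq_bot_of_le_smul_of_le_jacobson_bot _ _ Module.Finite.fg_top h2
    (IsLocalRing.maximalIdeal_le_jacobson _)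
  refine eq_top_iff.2 fun x _ => (Submodule.Quotient.mk_eq_zero W).1 ?_
  exact (Submodule.eq_bot_iff _).1 h3 _ trivial

theorem exists_split (iM : M →ₛₗ[chart0 (A := A)] L) (iN : N →ₛₗ[chart1 (A := A)] L)
    (h : chartSum iM iN = ⊤) {x : L} (hx : x ∈ mTop A L) :
    ∃ a b, a ∈ maxExt A • (⊤ : Submodule A[X] M) ∧ b ∈ maxExt A • (⊤ : Submodule A[X] N) ∧ iM a + iN b = x := by
  refine Submodule.smul_induction_on hx (fun r hr y _ => ?_) fun y z hy hz => ?_
  · obtain ⟨m, n, rfl⟩ := h.ge (Submodule.mem_top (x := y))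
    exact ⟨(C r : A[X]) • m, (C r : A[X]) • n, Submodule.smul_mem_smul (Ideal.mem_map_of_mem C hr) trivial,
      Submodule.smul_mem_smul (Ideal.mem_map_of_mem C hr) trivial, by
      rw [LinearMap.map_smulₛₗ, LinearMap.map_smulₛₗ, chart0_C_smul, chart1_C_smul, smul_add]⟩
  · obtain ⟨a, b, ha, hb, rfl⟩ := hy
    obtain ⟨a', b', ha', hb', rfl⟩ := hz
    exact ⟨a + a', b + b', add_mem ha ha', add_mem hb hb', by rw [map_add, map_add]; abel⟩

end Groth.Agent.HorrocksLib
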