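import Groth.Agent.HorrocksLib.Charts

/-!
Residual bases and the reduction modulo the maximal ideal.
-/

set_option autoImplicit false

universe u

namespace Groth.Agent.HorrocksLib

open Polynomial TensorProduct

variable {A : Type u} [CommRing A] [IsLocalRing A]

/-- Reduction of coefficients. -/
noncomputable abbrev red (A : Type u) [CommRing A] [IsLocalRing A] :
    A[X] →+* (IsLocalRing.ResidueField A)[X] :=
  Polynomial.mapRingHom (IsLocalRing.residue A)

theorem red_eq_zero {f : A[X]} : red A f = 0 ↔ f ∈ maxExt A := by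
  rw [maxExt, Ideal.mem_map_C_iff, Polynomial.ext_iff]
  refine forall_congr' fun n => ?_
  rw [coe_mapRingHom, coeff_map, coeff_zero, IsLocalRing.residue_eq_zero_iff]

theorem red_surjective : Function.Surjective (red A) :=
  Polynomial.map_surjective _ IsLocalRing.residue_surjective

theorem apply_mem_maxExt {M : Type u} [AddCommGroup M] [Module A[X] M] {x : M}
    (hx : x ∈ maxExt A • (⊤ : Submodule A[X] M)) (φ : M →ₗ[A[X]] A[X]) : φ x ∈ maxExt A := by
  refine Submodule.smul_induction_on hx (fun r hr y _ => ?_) fun y z hy hz => ?_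
  · rw [map_smul, smul_eq_mul]; exact Ideal.mul_mem_right _ _ hr
  · rw [map_add]; exact add_mem hy hz

theorem mem_smul_top_of_forall {M : Type u} [AddCommGroup M] [Module A[X] M] [Module.Finite A[X] M]
    [Module.Projective A[X] M] {x : M} (hx : ∀ φ : M →ₗ[A[X]] A[X], φ x ∈ maxExt A) :
    x ∈ maxExt A • (⊤ : Submodule A[X] M) := by
  obtain ⟨k, m, φ, hm⟩ := exists_dualBasis A[X] M
  rw [← hm x]
  exact sum_mem fun i _ => Submodule.smul_mem_smul (hx _) trivial

theorem exists_residual_basis {M : Type u} [AddCommGroup M] [Module A[X] M] [Module.Finite A[X] M]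
    [Module.Projective A[X] M] {n : ℕ} (v : Fin n → M)
    (hv : ∀ x, ∃ c : Fin n → A[X], x - ∑ i, c i • v i ∈ maxExt A • (⊤ : Submodule A[X] M)) :
    ∃ r ≤ n, ∃ (m : Fin r → M) (φ : Fin r → (M →ₗ[A[X]] A[X])),
      (∀ i j, φ i (m j) - (if i = j then 1 else 0) ∈ maxExt A) ∧
      ∀ x, x - ∑ i, φ i x • m i ∈ maxExt A • (⊤ : Submodule A[X] M) := by
  classical
  let K := (IsLocalRing.ResidueField A)[X]
  letI : Algebra A[X] K := (red A).toAlgebra
  let M₀ := K ⊗[A[X]] M
  let q : M →ₗ[A[X]] M₀ := TensorProduct.mk A[X] K M 1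
  have hqsurj : Function.Surjective q := by
    intro z
    induction z using TensorProduct.induction_on with
    | zero => exact ⟨0, map_zero _⟩
    | tmul c x =>
      obtain ⟨f, rfl⟩ := red_surjective c
      refine ⟨f • x, ?_⟩
      show (1 : K) ⊗ₜ (f • x) = _
      rw [← smul_tmul, Algebra.smul_def, _root_.mul_one]
      rfl
    | add x y hx hy =>
      obtain ⟨a, rfl⟩ := hx
      obtain ⟨b, rfl⟩ := hy
      exact ⟨a + b, map_add _ _ _⟩
  have hker : ∀ x, q x = 0 ↔ x ∈ maxExt A • (⊤ : Submodule A[X] M) := fun x => by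
    refine ⟨fun h => mem_smul_top_of_forall fun φ => ?_, fun h => ?_⟩
    · have h2 : TensorProduct.rid A[X] K (LinearMap.lTensor K φ (q x)) = 0 := by
        rw [h, LinearMap.map_zero, LinearEquiv.map_zero]
      have h3 : φ x • (1 : K) = 0 := h2
      rw [Algebra.smul_def, _root_.mul_one] at h3
      exact red_eq_zero.1 h3
    · refine Submodule.smul_induction_on h (fun r hr y _ => ?_) fun y z hy hz => ?_
      · show (1 : K) ⊗ₜ (r • y) = 0
        rw [← smul_tmul, Algebra.smul_def, _root_.mul_one, show algebraMap A[X] K r = 0 from red_eq_zero.2 hr,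
          zero_tmul]
      · rw [map_add, hy, hz, add_zero]
  have hspan : Submodule.span K (Set.range fun i => q (v i)) = ⊤ := by
    refine eq_top_iff.2 fun z _ => ?_
    obtain ⟨x, rfl⟩ := hqsurj z
    obtain ⟨c, hc⟩ := hv x
    have h1 := (hker _).2 hc
    rw [map_sub, sub_eq_zero] at h1
    rw [h1, map_sum]
    refine sum_mem fun i _ => ?_
    rw [map_smul, ← algebraMap_smul K (c i)]
    exact Submodule.smul_mem _ _ (Submodule.subset_span ⟨i, rfl⟩)
  haveI : Module.Projective K M₀ := inferInstance
  haveI : Module.Free K M₀ := Module.free_of_finite_type_torsion_free'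
  let b := Module.finBasis K M₀
  choose m hm using fun i => hqsurj (b i)
  have hred : Function.Surjective (Algebra.linearMap A[X] K) := red_surjective
  choose φ hφ using fun i => Module.projective_lifting_property (Algebra.linearMap A[X] K)
    (((b.coord i).restrictScalars A[X]).comp q) hred
  have hφ' : ∀ i x, algebraMap A[X] K (φ i x) = b.coord i (q x) := fun i x => LinearMap.congr_fun (hφ i) x
  refine ⟨_, ?_, m, φ, fun i j => ?_, fun x => (hker _).1 ?_⟩
  · refine le_trans ?_ (Fintype.card_fin n).le
    rw [← finrank_top K M₀, ← hspan]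
    exact finrank_range_le_card _
  · rw [← red_eq_zero]
    show algebraMap A[X] K _ = 0
    rw [map_sub, hφ', hm, Module.Basis.coord_apply, Module.Basis.repr_self, Finsupp.single_apply]
    split_ifs with h1 h2 h2 <;> simp_all
  · have h1 : ∀ i, q (φ i x • m i) = b.coord i (q x) • b i := fun i => by
      rw [map_smul, hm, ← algebraMap_smul K (φ i x) (b i), hφ']
    rw [map_sub, map_sum, Finset.sum_congr rfl fun i _ => h1 i, sub_eq_zero]
    exact (b.sum_repr (q x)).symm

end Groth.Agent.HorrocksLib
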