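import Groth.Agent.HorrocksLib.Local

/-!
The induction step in Horrocks' theorem.
-/

set_option autoImplicit false

universe u

namespace Groth.Agent.HorrocksLib

open Polynomial
open scoped LaurentPolynomial

variable {A : Type u} [CommRing A] [IsLocalRing A]
variable {L M N : Type u} [AddCommGroup L] [Module A[T;T⁻¹] L] [Module A L] [IsScalarTower A A[T;T⁻¹] L]
  [AddCommGroup M] [Module A[X] M] [AddCommGroup N] [Module A[X] N]

omit [IsLocalRing A] [Module A L] [IsScalarTower A A[T;T⁻¹] L] in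
theorem chart_cancel (j : ℕ) (x : L) :
    (chart0 X : A[T;T⁻¹]) ^ j • (chart1 X : A[T;T⁻¹]) ^ j • x = x := by
  rw [smul_smul, ← mul_pow, chart0_X_mul_chart1_X, one_pow, one_smul]

omit [IsLocalRing A] [Module A L] [IsScalarTower A A[T;T⁻¹] L] in
theorem chart_cancel' (j : ℕ) (x : L) :
    (chart1 X : A[T;T⁻¹]) ^ j • (chart0 X : A[T;T⁻¹]) ^ j • x = x := by
  rw [smul_smul, ← mul_pow, mul_comm, chart0_X_mul_chart1_X, one_pow, one_smul]

/-- An element of the chart at infinity that is nonzero mod the maximal ideal is, up to a power of the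
coordinate, nonzero at infinity. -/
theorem exists_leading [Module.Finite A[X] N] [Module.Projective A[X] N] (n' : N)
    (h : n' ∉ maxExt A • (⊤ : Submodule A[X] N)) :
    ∃ (e : ℕ) (n'' : N) (ψ : N →ₗ[A[X]] A[X]), IsUnit ((ψ n'').coeff 0) ∧
      n' - (X : A[X]) ^ e • n'' ∈ maxExt A • (⊤ : Submodule A[X] N) := by
  classical
  obtain ⟨k, m, φ, hm⟩ := exists_dualBasis A[X] N
  let g := fun i => red A (φ i n')
  have hex : ∃ e i, (g i).coeff e ≠ 0 := by
    by_contra hne
    push_neg at hne
    refine h ?_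
    rw [← hm n']
    exact sum_mem fun i _ => Submodule.smul_mem_smul
      (red_eq_zero.1 (Polynomial.ext fun e => (hne e i).trans (coeff_zero e).symm)) trivial
  let e := Nat.find hex
  obtain ⟨i₀, hi₀⟩ : ∃ i, (g i).coeff e ≠ 0 := Nat.find_spec hex
  have hdvd : ∀ i, (X : (IsLocalRing.ResidueField A)[X]) ^ e ∣ g i := fun i =>
    X_pow_dvd_iff.2 fun d hd => by
      by_contra hne
      exact Nat.find_min hex hd ⟨i, hne⟩
  choose q hq using hdvd
  choose f hf using fun i => red_surjective (A := A) (q i)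
  have hdiff : ∀ i, φ i n' - (X : A[X]) ^ e * f i ∈ maxExt A := fun i => by
    rw [← red_eq_zero, map_sub, map_mul, map_pow, hf, show red A (X : A[X]) = X by simp, ← hq, sub_self]
  refine ⟨e, ∑ i, f i • m i, φ i₀, ?_, ?_⟩
  · have h1 : φ i₀ n' - (X : A[X]) ^ e * φ i₀ (∑ i, f i • m i) ∈ maxExt A := by
      conv in φ i₀ n' => rw [← hm n']
      rw [map_sum, map_sum, Finset.mul_sum, ← Finset.sum_sub_distrib]
      refine sum_mem fun i _ => ?_
      rw [map_smul, map_smul, smul_eq_mul, smul_eq_mul, ← mul_assoc, ← sub_mul]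
      exact Ideal.mul_mem_right _ _ (hdiff i)
    rw [maxExt, Ideal.mem_map_C_iff] at h1
    by_contra hu
    have hu' : (φ i₀ (∑ i, f i • m i)).coeff 0 ∈ IsLocalRing.maximalIdeal A := hu
    refine hi₀ ?_
    show (Polynomial.map (IsLocalRing.residue A) (φ i₀ n')).coeff e = 0
    rw [coeff_map, IsLocalRing.residue_eq_zero_iff]
    have h2 := h1 e
    rw [coeff_sub, coeff_X_pow_mul', if_pos le_rfl, Nat.sub_self] at h2
    simpa using add_mem h2 hu'
  · conv in n' => rw [← hm n']
    rw [Finset.smul_sum, ← Finset.sum_sub_distrib]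
    refine sum_mem fun i _ => ?_
    rw [smul_smul, ← sub_smul]
    exact Submodule.smul_mem_smul (hdiff i) trivial

/-- A glued section, unimodular on both charts after a twist. -/
theorem exists_section_step [Module.Finite A[X] M] [Module.Projective A[X] M] [Module.Finite A[X] N]
    [Module.Projective A[X] N] {iM : M →ₛₗ[chart0 (A := A)] L} {iN : N →ₛₗ[chart1 (A := A)] L}
    (hM : IsChartMap chart0 iM) (hN : IsChartMap chart1 iN) {r : ℕ} (m : Fin (r + 1) → M)
    (φ : Fin (r + 1) → (M →ₗ[A[X]] A[X]))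
    (hδ : ∀ i j, φ i (m j) - (if i = j then 1 else 0) ∈ maxExt A)
    (hspan : ∀ x, x - ∑ i, φ i x • m i ∈ maxExt A • (⊤ : Submodule A[X] M)) :
    ∃ (iN' : N →ₛₗ[chart1 (A := A)] L) (s : M) (s' : N), IsChartMap chart1 iN' ∧ iM s = iN' s' ∧
      values A[X] s = ⊤ ∧ values A[X] s' = ⊤ ∧
      ∃ c : Fin r → A[X], m 0 - (s - ∑ i, c i • m i.succ) ∈ maxExt A • (⊤ : Submodule A[X] M) := by
  classical
  have h0C : ∀ (a : A) (x : L), (chart0 (C a) : A[T;T⁻¹]) • x = a • x := chart0_C_smul
  have h1C : ∀ (a : A) (x : L), (chart1 (C a) : A[T;T⁻¹]) • x = a • x := chart1_C_smul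
  choose d n hn using fun i => hN.loc (iM (m i))
  let n0 := ∑ i, d i
  -- the residual section
  obtain ⟨m0, c, hc, hφ0, hbig⟩ : ∃ (m0 : M) (c : Fin r → A[X]), m 0 = m0 - ∑ i, c i • m i.succ ∧
      φ 0 m0 - 1 ∈ maxExt A ∧
      (r ≠ 0 → ¬ ∃ n' : N, (chart1 X : A[T;T⁻¹]) ^ n0 • iM m0 - iN n' ∈ mTop A L) := by
    cases r with
    | zero => exact ⟨m 0, 0, by simp, by simpa using hδ 0 0, fun h => absurd rfl h⟩
    | succ r =>
      let i1 : Fin (r + 1 + 1) := Fin.succ 0
      obtain ⟨a, ha⟩ : ∃ a : ℕ,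
          ¬ ∃ n' : N, (chart1 X : A[T;T⁻¹]) ^ n0 • iM (m 0 + (X : A[X]) ^ a • m i1) - iN n' ∈ mTop A L := by
        by_contra hall
        push_neg at hall
        choose z hz using hall
        let y : ℕ → L := fun a => (chart1 X : A[T;T⁻¹]) ^ n0 • iM ((((X : A[X]) ^ (a + 1)) - X ^ a) • m i1)
        have hy : ∀ a, y a - iN (z (a + 1) - z a) ∈ mTop A L := fun a => by
          have := sub_mem (hz (a + 1)) (hz a)
          convert this using 1
          simp only [y, sub_smul, map_sub, map_add, smul_sub, smul_add]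
          abel
        have hy0 : ∀ a, (chart1 X : A[T;T⁻¹]) ^ a • y a = y 0 := fun a => by
          simp only [y]
          rw [smul_comm, show ((X : A[X]) ^ (a + 1) - X ^ a) = X ^ a * ((X : A[X]) ^ (0 + 1) - X ^ 0) by ring,
            mul_smul, LinearMap.map_smulₛₗ, map_pow, chart_cancel']
        have hz0 : z 1 - z 0 ∈ maxExt A • (⊤ : Submodule A[X] N) := by
          refine mem_smul_top_of_forall fun ψ => ?_
          rw [maxExt, Ideal.mem_map_C_iff]
          intro j
          have h1 : iN ((z (0 + 1) - z 0) - (X : A[X]) ^ (j + 1) • (z (j + 1 + 1) - z (j + 1))) ∈ mTop A L := by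
            have h2 := sub_mem (smul_mem_mTop ((chart1 X : A[T;T⁻¹]) ^ (j + 1)) (hy (j + 1))) (hy 0)
            rw [smul_sub, hy0] at h2
            convert h2 using 1
            rw [map_sub iN, LinearMap.map_smulₛₗ, map_pow]
            abel
          have h3 := apply_mem_of_chart_mem_mTop h1C hN h1 ψ
          rw [maxExt, Ideal.mem_map_C_iff] at h3
          have h4 := h3 j
          rwa [map_sub, map_smul, smul_eq_mul, coeff_sub, coeff_X_pow_mul', if_neg (by omega), sub_zero] at h4
        have h5 : iM ((((X : A[X]) ^ (0 + 1)) - X ^ 0) • m i1) ∈ mTop A L := by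
          have h6 : y 0 ∈ mTop A L := by
            have := add_mem (hy 0) (chart_mem_mTop chart1 h1C iN hz0)
            simpa using this
          have h7 := smul_mem_mTop ((chart0 X : A[T;T⁻¹]) ^ n0) h6
          rwa [chart_cancel] at h7
        have h8 := apply_mem_of_chart_mem_mTop h0C hM h5 (φ i1)
        rw [map_smul, smul_eq_mul] at h8
        have h9 := sub_mem h8 (Ideal.mul_mem_left _ ((X : A[X]) ^ (0 + 1) - X ^ 0) (hδ i1 i1))
        rw [if_pos rfl, ← mul_sub, sub_sub_cancel, _root_.mul_one, maxExt, Ideal.mem_map_C_iff] at h9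
        exact (IsLocalRing.maximalIdeal.isMaximal A).ne_top ((Ideal.eq_top_iff_one _).2 (by
          simpa [coeff_one] using h9 1))
      refine ⟨m 0 + (X : A[X]) ^ a • m i1, fun i => if i = 0 then (X : A[X]) ^ a else 0, ?_, ?_, fun _ => ha⟩
      · rw [Finset.sum_eq_single 0 (fun i _ hi => by simp [hi]) (by simp)]
        simp [i1]
      · rw [map_add, map_smul, smul_eq_mul]
        have h1 := hδ 0 0
        have h2 := hδ 0 i1
        rw [if_pos rfl] at h1
        rw [if_neg (Fin.succ_ne_zero 0).symm, sub_zero] at h2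
        rw [add_sub_right_comm]
        exact add_mem h1 (Ideal.mul_mem_left _ _ h2)
  -- its order at infinity
  obtain ⟨D, n', hn'⟩ := hN.loc (iM m0)
  have hn'ne : n' ∉ maxExt A • (⊤ : Submodule A[X] N) := fun h => by
    have h1 := smul_mem_mTop ((chart0 X : A[T;T⁻¹]) ^ D) (chart_mem_mTop chart1 h1C iN h)
    rw [← hn', chart_cancel] at h1
    have h2 := sub_mem (apply_mem_of_chart_mem_mTop h0C hM h1 (φ 0)) hφ0
    rw [sub_sub_cancel, maxExt, Ideal.mem_map_C_iff] at h2
    exact (IsLocalRing.maximalIdeal.isMaximal A).ne_top ((Ideal.eq_top_iff_one _).2 (by simpa using h2 0))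
  obtain ⟨e, n'', ψ, hψ, hn''⟩ := exists_leading n' hn'ne
  let w : A[T;T⁻¹] := chart0 X ^ D * chart1 X ^ e
  have hw : IsUnit w := by
    have h := chart0_X_mul_chart1_X (A := A)
    exact ((IsUnit.of_mul_eq_one _ h).pow D).mul ((IsUnit.of_mul_eq_one _ ((mul_comm _ _).trans h)).pow e)
  let iN' : N →ₛₗ[chart1 (A := A)] L :=
    { toFun := fun x => w • iN x
      map_add' := fun x y => by rw [map_add, smul_add]
      map_smul' := fun c x => by rw [LinearMap.map_smulₛₗ, smul_comm] }
  have hN' : IsChartMap chart1 iN' := by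
    refine ⟨fun x y h => hN.inj (hw.smul_left_cancel.1 h), fun x => ?_⟩
    obtain ⟨k, z, hz⟩ := hN.loc ((↑hw.unit⁻¹ : A[T;T⁻¹]) • x)
    refine ⟨k, z, ?_⟩
    show _ = w • iN z
    rw [← hz, smul_comm w, smul_smul w, IsUnit.mul_val_inv, one_smul]
  have happrox : iM m0 - iN' n'' ∈ mTop A L := by
    have h1 := smul_mem_mTop ((chart0 X : A[T;T⁻¹]) ^ D) (chart_mem_mTop chart1 h1C iN hn'')
    rw [map_sub, ← hn', smul_sub, chart_cancel, LinearMap.map_smulₛₗ, map_pow, smul_smul] at h1
    exact h1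
  -- the twisted gluing has no first cohomology
  have hsum : chartSum iM iN' = ⊤ := by
    refine chartSum_eq_top hM hN' (eq_top_of_band hM _
      (fun x => Submodule.mem_sup_left ⟨x, 0, by simp⟩) fun x j => ?_)
    have hsum' : ∀ i, ∀ j : ℕ, (chart1 X : A[T;T⁻¹]) ^ j • iM (m i) ∈ chartSum iM iN' ⊔ mTop A L := by
      intro i j
      rcases eq_or_ne r 0 with hr | hr
      · subst hr
        have h0 : i = 0 := Subsingleton.elim (α := Fin 1) _ _
        have hm0 : m0 = m 0 := by simpa using hc.symm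
        rw [h0, ← hm0, show iM m0 = iN' n'' + (iM m0 - iN' n'') by abel, smul_add]
        refine add_mem (Submodule.mem_sup_left ⟨0, (X : A[X]) ^ j • n'', ?_⟩)
          (Submodule.mem_sup_right (smul_mem_mTop _ happrox))
        rw [map_zero, zero_add, LinearMap.map_smulₛₗ, map_pow]
      · have hDe : e + n0 < D := by
          by_contra hle
          push_neg at hle
          refine hbig hr ⟨(X : A[X]) ^ (e + n0 - D) • n'', ?_⟩
          have h1 := smul_mem_mTop ((chart1 X : A[T;T⁻¹]) ^ n0) happrox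
          convert h1 using 1
          rw [smul_sub]
          congr 1
          show _ = (chart1 X : A[T;T⁻¹]) ^ n0 • w • iN n''
          rw [LinearMap.map_smulₛₗ, map_pow, smul_smul]
          congr 1
          show _ = chart1 X ^ n0 * (chart0 X ^ D * chart1 X ^ e)
          rw [mul_left_comm, ← pow_add, show n0 + e = D + (e + n0 - D) by omega, pow_add, ← mul_assoc, ← mul_pow,
            chart0_X_mul_chart1_X, one_pow, _root_.one_mul]
        have hdi : d i ≤ n0 := Finset.single_le_sum (f := d) (fun _ _ => Nat.zero_le _) (Finset.mem_univ i)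
        refine Submodule.mem_sup_left ⟨0, (X : A[X]) ^ (j + (D - e) - d i) • n i, ?_⟩
        rw [map_zero, zero_add]
        show w • iN _ = _
        rw [LinearMap.map_smulₛₗ, map_pow, ← hn, smul_smul, smul_smul]
        congr 1
        show chart0 X ^ D * chart1 X ^ e * chart1 X ^ (j + (D - e) - d i) * chart1 X ^ d i = _
        rw [mul_assoc, ← pow_add, mul_assoc, ← pow_add, show e + (j + (D - e) - d i + d i) = D + j by omega,
          pow_add, ← mul_assoc, ← mul_pow, chart0_X_mul_chart1_X, one_pow, _root_.one_mul]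
    have h1 : x = (x - ∑ i, φ i x • m i) + ∑ i, φ i x • m i := by abel
    rw [h1, map_add, smul_add, map_sum, Finset.smul_sum]
    refine add_mem (Submodule.mem_sup_right (smul_mem_mTop _ (chart_mem_mTop chart0 h0C iM (hspan x))))
      (sum_mem fun i _ => band iM (chartSum iM iN' ⊔ mTop A L) (fun y => Submodule.mem_sup_left ⟨y, 0, by simp⟩) (hsum' i) _ j)
  -- lift the residual section
  obtain ⟨a, b, ha, hb, hab⟩ := exists_split iM iN' hsum happrox
  have heq : iM (m0 - a) = iN' (n'' + b) := by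
    rw [map_sub, map_add, ← sub_eq_zero]
    calc iM m0 - iM a - (iN' n'' + iN' b) = (iM m0 - iN' n'') - (iM a + iN' b) := by abel
      _ = 0 := by rw [hab, sub_self]
  have hφs : φ 0 (m0 - a) - 1 ∈ maxExt A := by
    rw [map_sub, sub_right_comm]
    exact sub_mem hφ0 (apply_mem_maxExt ha _)
  have hψs : IsUnit ((ψ (n'' + b)).coeff 0) := by
    by_contra hu
    have h1 : (ψ (n'' + b)).coeff 0 ∈ IsLocalRing.maximalIdeal A := hu
    have h2 := Ideal.mem_map_C_iff.1 (apply_mem_maxExt hb ψ) 0
    rw [map_add, coeff_add] at h1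
    exact ((IsLocalRing.notMem_maximalIdeal).2 hψ) (by simpa using sub_mem h1 h2)
  obtain ⟨hv, hv'⟩ := values_eq_top hM hN' heq hφs hψs
  refine ⟨iN', m0 - a, n'' + b, hN', heq, hv, hv', c, ?_⟩
  rw [hc, show m0 - ∑ i, c i • m i.succ - (m0 - a - ∑ i, c i • m i.succ) = a by abel]
  exact ha

end Groth.Agent.HorrocksLib
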